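import Cfsg.Agent.RankThreeInvol.CommP.Pairs

/-!
# Commute-or-order-`p` classes: the blocks of commuting members have `p` elements
-/

set_option autoImplicit false

namespace Cfsg.Agent.RankThreeInvol

open Subgroup

variable {G : Type*} [Group G]

/-- The members of `D` exchanging the blocks of `a` and `b`. -/
def swp (D : Set G) (a b : G) : Set G := {d ∈ D | Commute (d * a * d⁻¹) b}

theorem eq_one_of_two_pow_eq {p a r : ℕ} (hp : Odd p) (ha : a ≠ 0) (hr : 2 ≤ r)
    (h : 2 ^ r = p ^ a + 1) : a = 1 := by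
  obtain ⟨j, rfl⟩ := hp
  have h4 : 4 ∣ 2 ^ r := (pow_dvd_pow 2 hr : 2 ^ 2 ∣ 2 ^ r)
  have hsq : (2 * j + 1) ^ 2 ≡ 1 [MOD 4] := by
    rw [Nat.ModEq, show (2 * j + 1) ^ 2 = 4 * (j * j + j) + 1 by ring, Nat.mul_add_mod]
  rcases Nat.even_or_odd' a with ⟨k, rfl | rfl⟩
  · have h1 : (2 * j + 1) ^ (2 * k) % 4 = 1 := by
      rw [pow_mul]
      have := hsq.pow k
      rwa [one_pow] at this
    omega
  · have hp1 : 2 * j + 1 + 1 ∣ 2 ^ r := by
      rw [h]
      have := Odd.nat_add_dvd_pow_add_pow (2 * j + 1) 1 (odd_two_mul_add_one k)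
      rwa [one_pow] at this
    obtain ⟨s, hsr, hs⟩ := (Nat.dvd_prime_pow Nat.prime_two).1 hp1
    have hm : (2 * j + 1) ^ 2 ≡ 1 [MOD 2 ^ (s + 1)] := by
      rw [pow_succ 2 s, ← hs, Nat.ModEq,
        show (2 * j + 1) ^ 2 = (2 * j + 1 + 1) * 2 * j + 1 by ring, Nat.mul_add_mod]
    have hm' : 2 ^ r ≡ 2 ^ s [MOD 2 ^ (s + 1)] := by
      have := (((hm.pow k).mul_right (2 * j + 1)).add_right 1)
      rwa [one_pow, one_mul, ← pow_mul, ← pow_succ, ← h, hs] at this
    have hle : r ≤ s := by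
      by_contra hlt
      have h1 : 2 ^ (s + 1) ∣ 2 ^ r := pow_dvd_pow 2 (by omega)
      have h2 : 2 ^ (s + 1) ∣ 2 ^ s := (Nat.ModEq.dvd_iff hm' dvd_rfl).1 h1
      have := Nat.pow_dvd_pow_iff_le_right (x := 2) (by norm_num) |>.1 h2
      omega
    have hrs : r = s := le_antisymm hle hsr
    have h5 : (2 * j + 1) ^ (2 * k + 1) = (2 * j + 1) ^ 1 := by
      rw [pow_one]
      subst hrs
      omega
    by_cases hj : j = 0
    · subst hj
      have hr' : 2 ^ 2 ≤ 2 ^ r := Nat.pow_le_pow_right (by norm_num) hr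
      omega
    exact Nat.pow_right_injective (by omega : 2 ≤ 2 * j + 1) h5

theorem swap_back {d a : G} (hd : orderOf d = 2) : d * (d * a * d⁻¹) * d⁻¹ = a := by
  rw [conj_eq hd, conj_eq hd, ← mul_assoc d, ← mul_assoc d, Invol.mul_self_eq_one hd, one_mul,
    mul_assoc, Invol.mul_self_eq_one hd, mul_one]

namespace PCrit

variable [Finite G] {D : Set G} {p : ℕ}

theorem ctrans (h : PCrit D p) {a b c : G} (ha : a ∈ D) (hb : b ∈ D) (hc : c ∈ D)
    (h1 : Commute a b) (h2 : Commute b c) : Commute a c :=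
  (h.blk_eq_of_commute ha hb h1 ▸ (⟨hc, h2⟩ : c ∈ blk D b) : c ∈ blk D a).2

omit [Finite G] in
theorem fixes_own (h : PCrit D p) {d e : G} (hd : d ∈ D) (he : e ∈ D)
    (hc : Commute (d * e * d⁻¹) e) : Commute d e := by
  by_contra hn
  exact h.not_commute_conj he hd (fun c => hn c.symm) hc.symm

theorem exists_not_commute (h : PCrit D p) {d : G} (hd : d ∈ D) :
    ∃ e ∈ D, ¬ Commute d e := by
  by_contra hne
  push Not at hne
  have hc : d ∈ Subgroup.center G := by
    refine Subgroup.mem_center_iff.2 fun a => ?_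
    have hle : closure D ≤ centralizer {d} :=
      (closure_le _).2 fun e he => mem_centralizer_singleton_iff.2 (hne e he).eq.symm
    rw [h.gen] at hle
    exact mem_centralizer_singleton_iff.1 (hle (mem_top a))
  rw [h.trivCenter, mem_bot] at hc
  exact Invol.ne_one (h.inv d hd) hc

/-- The kernel of the action on the blocks. -/
def kerBlk (h : PCrit D p) : Subgroup G where
  carrier := {g | ∀ d ∈ D, Commute (g * d * g⁻¹) d}
  one_mem' := fun d _ => by rw [one_mul, inv_one, mul_one]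
  mul_mem' := fun {a b} ha hb d hd => by
    have he : a * b * d * (a * b)⁻¹ = a * (b * d * b⁻¹) * a⁻¹ := by group
    rw [he]
    exact h.ctrans (h.conj_mem (h.conj_mem hd b) a) (h.conj_mem hd b) hd
      (ha _ (h.conj_mem hd b)) (hb d hd)
  inv_mem' := fun {a} ha d hd => by
    have := ha _ (h.conj_mem hd a⁻¹)
    rw [inv_inv] at this
    have he : a * (a⁻¹ * d * a) * a⁻¹ = d := by group
    rw [he] at this
    simpa using this.symm

theorem kerBlk_normal (h : PCrit D p) : h.kerBlk.Normal := by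
  refine ⟨fun n hn g d hd => ?_⟩
  have h1 := (Commute.conj_iff g).2 (hn _ (h.conj_mem hd g⁻¹))
  rw [inv_inv] at h1
  have e1 : g * (n * (g⁻¹ * d * g) * n⁻¹) * g⁻¹ = g * n * g⁻¹ * d * (g * n * g⁻¹)⁻¹ := by group
  have e2 : g * (g⁻¹ * d * g) * g⁻¹ = d := by group
  rwa [e1, e2] at h1

theorem conj_blk_of_mem_kerBlk (h : PCrit D p) {g d e : G} (hg : g ∈ h.kerBlk) (hd : d ∈ D)
    (he : e ∈ blk D d) : g * e * g⁻¹ ∈ blk D d :=
  ⟨h.conj_mem he.1 g, (h.ctrans (h.conj_mem he.1 g) he.1 hd (hg e he.1) he.2.symm).symm⟩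

theorem closure_blk_two (h : PCrit D p) {d : G} (hd : d ∈ D) :
    ∀ g ∈ closure (blk D d), g * g = 1 := by
  have hcomm : ∀ a ∈ blk D d, ∀ b ∈ blk D d, a * b = b * a := fun a ha b hb =>
    (h.ctrans ha.1 hd hb.1 ha.2.symm hb.2).eq
  have hab := isMulCommutative_closure hcomm
  intro g hg
  induction hg using closure_induction with
  | mem a ha => exact Invol.mul_self_eq_one (h.inv a ha.1)
  | one => exact one_mul 1
  | mul a b ha hb hia hib =>
    have hc : b * a = a * b := setLike_mul_comm (s := closure (blk D d)) hb ha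
    rw [mul_assoc, ← mul_assoc b, hc, mul_assoc a b, hib, mul_one, hia]
  | inv a _ hia => rw [← mul_inv_rev, hia, inv_one]

/-- The product of two commuting members is a member. -/
theorem pair_mem (h : PCrit D p) {x y : G} (hx : x ∈ D) (hy : y ∈ D) (hxy : Commute x y)
    (hne : x ≠ y) : x * y ∈ D := by
  have := Fact.mk Nat.prime_two
  set Q := h.kerBlk with hQ
  have hQn := h.kerBlk_normal
  set t := x * y with ht
  have htne : t ≠ 1 := fun he => hne (eq_of_mul_eq_one (h.inv y hy) he)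
  have htQ : t ∉ Q := fun htQ => by
    set T := closure (blk D x)
    have hnorm : ((T ⊓ Q).subgroupOf Q).Normal := by
      refine ⟨fun n hn g => ?_⟩
      rw [mem_subgroupOf] at hn ⊢
      refine ⟨?_, SetLike.coe_mem _⟩
      have hle : T.map (MulAut.conj (g : G)).toMonoidHom ≤ T := by
        rw [MonoidHom.map_closure]
        refine (closure_le _).2 ?_
        rintro _ ⟨e, he, rfl⟩
        exact subset_closure (h.conj_blk_of_mem_kerBlk g.2 hx he)
      exact hle ⟨_, hn.1, rfl⟩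
    have hp2 : IsPGroup 2 ((T ⊓ Q).subgroupOf Q) := fun a => ⟨1, by
      refine Subtype.ext (Subtype.ext ?_)
      have := h.closure_blk_two hx _ (mem_subgroupOf.1 a.2).1
      simpa [pow_two] using this⟩
    have hle := Core.le_pCore hp2
    have htT : t ∈ T := mul_mem (subset_closure ⟨hx, Commute.refl x⟩) (subset_closure ⟨hy, hxy⟩)
    have : (Cfsg.pCore 2 Q).Characteristic := characteristic_iff_map_eq.2 fun e => Core.map_pCore e
    have hle2 : (Cfsg.pCore 2 Q).map Q.subtype ≤ Cfsg.pCore 2 G :=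
      Core.le_pCore (Core.pCore_isPGroup.map _)
    have h1 := hle2 ⟨⟨t, htQ⟩, hle (mem_subgroupOf.2 ⟨htT, htQ⟩), rfl⟩
    rw [h.twoCore, mem_bot] at h1
    exact htne h1
  obtain ⟨z, hz, hzn⟩ : ∃ z ∈ D, ¬ Commute (t * z * t⁻¹) z := by
    by_contra hno
    push Not at hno
    exact htQ hno
  have hcz : Commute x z → False := fun hc => hzn (by
    have hc' : Commute y z := h.ctrans hy hx hz hxy.symm hc
    have h1 : Commute t z := hc.mul_left hc'
    rw [h1.eq, mul_inv_cancel_right])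
  exact h.mul_mem_of_fType hx hy hz hxy hne hcz (fun hc => hcz (h.ctrans hx hy hz hxy hc)) hzn

theorem gen_three (h : PCrit D p) {x y z : G} (hx : x ∈ D) (hy : y ∈ D) (hz : z ∈ D)
    (hxy : Commute x y) (hne : x ≠ y) (hxz : ¬ Commute x z) :
    closure ({x, y, z} : Set G) = ⊤ := by
  refine h.gen_of_fType hx hy hz hxy hxz (fun hc => hxz (h.ctrans hx hy hz hxy hc)) fun hc => hxz ?_
  have htD := h.pair_mem hx hy hxy hne
  exact h.ctrans hx htD hz ((Commute.refl x).mul_right hxy) (h.fixes_own htD hz hc)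

/-- An element centralising two members of a block and one outside is trivial. -/
theorem eq_one_of_three (h : PCrit D p) {x y z g : G} (hx : x ∈ D) (hy : y ∈ D) (hz : z ∈ D)
    (hxy : Commute x y) (hne : x ≠ y) (hxz : ¬ Commute x z)
    (h1 : Commute g x) (h2 : Commute g y) (h3 : Commute g z) : g = 1 :=
  h.eq_one_of_central (h.gen_three hx hy hz hxy hne hxz) h1 h2 h3

omit [Finite G] in
theorem swp_mem_iff {a b d : G} : d ∈ swp D a b ↔ d ∈ D ∧ Commute (d * a * d⁻¹) b := Iff.rfl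

omit [Finite G] in
theorem swp_symm (h : PCrit D p) {a b d : G} (hd : d ∈ swp D a b) : d ∈ swp D b a := by
  refine ⟨hd.1, ?_⟩
  have := (Commute.conj_iff d).2 hd.2
  rw [swap_back (h.inv d hd.1)] at this
  exact this.symm

omit [Finite G] in
theorem swp_not_commute (h : PCrit D p) {a b d : G} (hab : ¬ Commute a b) (hd : d ∈ swp D a b) :
    ¬ Commute d a ∧ ¬ Commute d b := by
  constructor
  · intro hc
    have := hd.2
    rw [hc.eq, mul_inv_cancel_right] at this
    exact hab this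
  · intro hc
    have := (h.swp_symm hd).2
    rw [hc.eq, mul_inv_cancel_right] at this
    exact hab this.symm

theorem swp_step (h : PCrit D p) {a b c d : G} (ha : a ∈ D) (hb : b ∈ D) (hc : c ∈ D)
    (hd : d ∈ swp D a b) (hca : Commute c a) : Commute (d * c * d⁻¹) b :=
  h.ctrans (h.conj_mem hc d) (h.conj_mem ha d) hb ((Commute.conj_iff d).2 hca) hd.2

theorem swp_step' (h : PCrit D p) {a b c d : G} (ha : a ∈ D) (hb : b ∈ D) (hc : c ∈ D)
    (hd : d ∈ swp D a b) (hcb : Commute c b) : Commute (d * c * d⁻¹) a :=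
  h.swp_step hb ha hc (h.swp_symm hd) hcb

/-- A member exchanging two blocks is determined by the image of one point. -/
theorem swp_inj (h : PCrit D p) {a b a' d d' : G} (ha : a ∈ D) (hab : ¬ Commute a b)
    (hd : d ∈ swp D a b) (hd' : d' ∈ swp D a b) (ha' : a' ∈ blk D a)
    (he : d * a' * d⁻¹ = d' * a' * d'⁻¹) : d = d' := by
  set x' := d * a' * d⁻¹ with hx'
  have hn : ∀ e ∈ swp D a b, ¬ Commute e a' := fun e hem hc =>
    (h.swp_not_commute hab hem).1 (h.ctrans hem.1 ha'.1 ha hc ha'.2.symm)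
  have key : ∀ e ∈ swp D a b, e * a' * e⁻¹ = x' → e = mid a' x' := by
    intro e hem hex
    have hodd : Odd (orderOf (a' * x')) := by
      rw [← hex]
      exact h.odd_of_not ha'.1 (h.conj_mem ha'.1 e)
        (h.not_commute_conj ha'.1 hem.1 fun c => hn e hem c.symm)
    have hxD : x' ∈ D := hex ▸ h.conj_mem ha'.1 e
    set w := mid a' x' with hw
    have hwD : w ∈ D := mid_mem h.inv h.cl ha'.1 hxD
    have hcw : Commute e w := swap_commute_mid (h.inv e hem.1) (h.inv a' ha'.1) (h.inv x' hxD) hodd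
      (conj_eq (h.inv e hem.1) a' ▸ hex)
    by_contra hne
    have hprod := h.pair_mem hem.1 hwD hcw hne
    have hfix : Commute (e * w) a' := by
      refine mul_inv_eq_iff_eq_mul.1 ?_
      calc e * w * a' * (e * w)⁻¹ = e * (w * a' * w⁻¹) * e⁻¹ := by group
        _ = e * x' * e⁻¹ := by rw [hw, mid_conj' (h.inv a' ha'.1) (h.inv x' hxD) hodd]
        _ = a' := by rw [← hex, swap_back (h.inv e hem.1)]
    exact hn e hem (h.ctrans hem.1 hprod ha'.1 ((Commute.refl e).mul_right hcw) hfix)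
  rw [key d hd rfl, key d' hd' he.symm]

theorem ncard_swp (h : PCrit D p) {a b : G} (ha : a ∈ D) (hb : b ∈ D) (hab : ¬ Commute a b) :
    (swp D a b).ncard = (blk D b).ncard := by
  have himg : (fun d => d * a * d⁻¹) '' swp D a b = blk D b := by
    ext w
    constructor
    · rintro ⟨d, hd, rfl⟩
      exact ⟨h.conj_mem ha d, hd.2.symm⟩
    · rintro ⟨hw, hbw⟩
      have hn : ¬ Commute a w := fun hc => hab (h.ctrans ha hw hb hc hbw.symm)
      have hm := mid_conj' (h.inv a ha) (h.inv w hw) (h.odd_of_not ha hw hn)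
      refine ⟨mid a w, ⟨mid_mem h.inv h.cl ha hw, ?_⟩, hm⟩
      rw [hm]
      exact hbw.symm
  rw [← himg, Set.InjOn.ncard_image]
  intro d hd d' hd' he
  exact h.swp_inj ha hab hd hd' ⟨ha, Commute.refl a⟩ he

theorem swp_closed (h : PCrit D p) {a b d d' : G} (ha : a ∈ D) (hb : b ∈ D)
    (hd : d ∈ swp D a b) (hd' : d' ∈ swp D a b) : d * d' * d ∈ swp D a b := by
  refine ⟨h.cl d hd.1 d' hd'.1, ?_⟩
  have he : d * d' * d * a * (d * d' * d)⁻¹ = d * (d' * (d * a * d⁻¹) * d'⁻¹) * d⁻¹ := by group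
  rw [he]
  exact h.swp_step ha hb (h.conj_mem (h.conj_mem ha d) d') hd
    (h.swp_step' ha hb (h.conj_mem ha d) hd' hd.2)

theorem swp_pair (h : PCrit D p) {a b d d' : G} (ha : a ∈ D) (hb : b ∈ D) (hab : ¬ Commute a b)
    (hd : d ∈ swp D a b) (hd' : d' ∈ swp D a b) (hne : d ≠ d') : ¬ Commute d d' := by
  intro hc
  have hu := h.pair_mem hd.1 hd'.1 hc hne
  have he : d * d' * a * (d * d')⁻¹ = d * (d' * a * d'⁻¹) * d⁻¹ := by group
  have h1 : Commute (d * d' * a * (d * d')⁻¹) a := by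
    rw [he]
    exact h.swp_step' ha hb (h.conj_mem ha d') hd hd'.2
  exact (h.swp_not_commute hab hd).1 (h.ctrans hd.1 hu ha ((Commute.refl d).mul_right hc)
    (h.fixes_own hu ha h1))

theorem swp_order (h : PCrit D p) {a b d d' : G} (ha : a ∈ D) (hb : b ∈ D) (hab : ¬ Commute a b)
    (hd : d ∈ swp D a b) (hd' : d' ∈ swp D a b) (hne : d ≠ d') : orderOf (d * d') = p :=
  h.order_of_not hd.1 hd'.1 (h.swp_pair ha hb hab hd hd' hne)

theorem pair_line (h : PCrit D p) {a b d d' : G} (ha : a ∈ D) (hb : b ∈ D)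
    (hd : d ∈ swp D a b) (hd' : d' ∈ swp D a b) {c : G} (hc : c ∈ blk D a) :
    d * d' * c * (d * d')⁻¹ ∈ blk D a := by
  refine ⟨h.conj_mem hc.1 _, Commute.symm ?_⟩
  have he : d * d' * c * (d * d')⁻¹ = d * (d' * c * d'⁻¹) * d⁻¹ := by group
  rw [he]
  exact h.swp_step' ha hb (h.conj_mem hc.1 d') hd (h.swp_step ha hb hc.1 hd' hc.2.symm)

theorem line_free (h : PCrit D p) {a b d d' : G} (ha : a ∈ D) (hab : ¬ Commute a b)
    (hd : d ∈ swp D a b) (hd' : d' ∈ swp D a b) (hne : d ≠ d') {c : G} (hc : c ∈ blk D a) :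
    d * d' * c * (d * d')⁻¹ ≠ c := by
  intro he
  refine hne (h.swp_inj ha hab hd hd' hc ?_)
  conv_lhs => rw [← he]
  rw [show d * (d * d' * c * (d * d')⁻¹) * d⁻¹ = d * (d * (d' * c * d'⁻¹) * d⁻¹) * d⁻¹ by group,
    swap_back (h.inv d hd.1)]

theorem blk_add_one (h : PCrit D p) {d : G} (hd : d ∈ D) : ∃ r, (blk D d).ncard + 1 = 2 ^ r := by
  have := Fact.mk Nat.prime_two
  have hdd : ∀ a ∈ blk D d, a * a = 1 := fun a ha => Invol.mul_self_eq_one (h.inv a ha.1)
  let T : Subgroup G :=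
    { carrier := insert 1 (blk D d)
      one_mem' := Set.mem_insert _ _
      mul_mem' := by
        rintro a b (rfl | ha) hb
        · rwa [one_mul]
        rcases hb with rfl | hb
        · rw [mul_one]; exact Or.inr ha
        rcases eq_or_ne a b with rfl | hne
        · exact Or.inl (hdd a ha)
        · have hab := h.ctrans ha.1 hd hb.1 ha.2.symm hb.2
          exact Or.inr ⟨h.pair_mem ha.1 hb.1 hab hne, ha.2.mul_right hb.2⟩
      inv_mem' := by
        rintro a (rfl | ha)
        · rw [inv_one]; exact Or.inl rfl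
        · rw [inv_eq_of_mul_eq_one_right (hdd a ha)]; exact Or.inr ha }
  have hT : IsPGroup 2 T := fun a => ⟨1, Subtype.ext (by
    rcases a.2 with ha | ha
    · simp [ha]
    · rw [SubmonoidClass.coe_pow, pow_one, pow_two]; exact hdd _ ha)⟩
  obtain ⟨r, hr⟩ := IsPGroup.iff_card.1 hT
  refine ⟨r, ?_⟩
  rw [← hr]
  show _ = Nat.card ↥(insert 1 (blk D d))
  rw [Nat.card_coe_set_eq, Set.ncard_insert_of_notMem]
  exact fun h1 => Invol.ne_one (h.inv 1 h1.1) rfl

/-- Each block has exactly `p` members. -/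
theorem ncard_blk_eq (h : PCrit D p) (hpair : ∃ x ∈ D, ∃ y ∈ D, Commute x y ∧ x ≠ y) {d : G}
    (hd : d ∈ D) : (blk D d).ncard = p := by
  have := Fact.mk h.prime
  obtain ⟨x, hx, y, hy, hxy, hne⟩ := hpair
  have h2 : 2 ≤ (blk D d).ncard := by
    rw [h.ncard_blk hd hx, ← Set.ncard_pair hne]
    exact Set.ncard_le_ncard (Set.insert_subset ⟨hx, Commute.refl x⟩
      (Set.singleton_subset_iff.2 ⟨hy, hxy⟩)) (Set.toFinite _)
  obtain ⟨b, hb, hdb⟩ := h.exists_not_commute hd
  have hm : (swp D d b).ncard = (blk D d).ncard :=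
    (h.ncard_swp hd hb hdb).trans (h.ncard_blk hb hd)
  obtain ⟨e, he, e', he', hee⟩ :=
    (Set.one_lt_ncard (Set.toFinite (swp D d b))).1 (by rw [hm]; omega)
  set g := e * e' with hg
  have hord := h.swp_order hd hb hdb he he' hee
  have hp : p ∣ (blk D d).ncard := by
    have := ncard_fixed_modEq (p := p) (n := 1) (Set.toFinite (blk D d))
      (fun c => g * c * g⁻¹) (fun c hc => h.pair_line hd hb he he' hc) (fun c _ => by
        rw [conj_iterate, pow_one, hg, ← hord, pow_orderOf_eq_one, one_mul, inv_one, mul_one])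
    have hempty : {c ∈ blk D d | g * c * g⁻¹ = c} = ∅ :=
      Set.eq_empty_of_forall_notMem fun c hc => h.line_free hd hdb he he' hee hc.1 hc.2
    rw [hempty, Set.ncard_empty] at this
    exact Nat.modEq_zero_iff_dvd.1 this
  obtain ⟨k, hk⟩ := exists_pow_ncard_of_pairs h.prime h.two_lt.ne' (E := swp D d b)
    (fun c hc => h.inv c hc.1) (fun a ha c hc => h.swp_closed hd hb ha hc) (fun a ha c hc => by
      rcases eq_or_ne a c with rfl | hac
      · exact ⟨0, by rw [Invol.mul_self_eq_one (h.inv a ha.1), orderOf_one, pow_zero]⟩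
      · exact ⟨1, (h.swp_order hd hb hdb ha hc hac).trans (pow_one p).symm⟩) ⟨e, he⟩
  obtain ⟨r, hr⟩ := h.blk_add_one hd
  rw [hm] at hk
  rw [hk] at hp hr h2 ⊢
  have hk0 : k ≠ 0 := by rintro rfl; simp at h2
  have hr2 : 2 ≤ r := by
    by_contra hlt
    have : 2 ^ r ≤ 2 ^ 1 := Nat.pow_le_pow_right (by norm_num) (by omega)
    omega
  rw [eq_one_of_two_pow_eq h.odd hk0 hr2 hr.symm, pow_one]

end PCrit

end Cfsg.Agent.RankThreeInvol
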