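import Cfsg.Agent.RankThreeInvol.CommP.Blocks

/-!
# Commute-or-order-`p` classes: the action on the blocks, and the contradiction
-/

set_option autoImplicit false

namespace Cfsg.Agent.RankThreeInvol

open Subgroup

variable {G : Type*} [Group G]

/-- The set of blocks. -/
def blocks (D : Set G) : Set (Set G) := blk D '' D

/-- Conjugation on sets. -/
def cjSet (g : G) (β : Set G) : Set G := (fun e => g * e * g⁻¹) '' β

theorem cjSet_iterate (g : G) (β : Set G) (k : ℕ) : (cjSet g)^[k] β = cjSet (g ^ k) β := by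
  induction k with
  | zero => simp [cjSet]
  | succ k ih =>
    rw [Function.iterate_succ_apply', ih, pow_succ', cjSet, cjSet, cjSet, Set.image_image]
    refine Set.image_congr fun e _ => ?_
    group

namespace PCrit

variable [Finite G] {D : Set G} {p : ℕ}

/-- The stabiliser of the block of `d`. -/
def stabBlk (h : PCrit D p) {d : G} (hd : d ∈ D) : Subgroup G where
  carrier := {g | Commute (g * d * g⁻¹) d}
  one_mem' := by rw [Set.mem_ofPred_eq, one_mul, inv_one, mul_one]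
  mul_mem' := fun {a b} ha hb => by
    have he : a * b * d * (a * b)⁻¹ = a * (b * d * b⁻¹) * a⁻¹ := by group
    show Commute _ d
    rw [he]
    exact h.ctrans (h.conj_mem (h.conj_mem hd b) a) (h.conj_mem hd a) hd
      ((Commute.conj_iff a).2 hb) ha
  inv_mem' := fun {a} ha => by
    show Commute _ d
    have := (Commute.conj_iff a⁻¹).2 ha
    have e1 : a⁻¹ * (a * d * a⁻¹) * a⁻¹⁻¹ = d := by group
    rw [e1] at this
    exact this.symm

theorem mem_stabBlk (h : PCrit D p) {d g : G} (hd : d ∈ D) :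
    g ∈ h.stabBlk hd ↔ Commute (g * d * g⁻¹) d := Iff.rfl

omit [Finite G] in
theorem cjSet_blk (h : PCrit D p) (g d : G) : cjSet g (blk D d) = blk D (g * d * g⁻¹) :=
  (h.blk_conj g d).symm

theorem blk_eq_iff (h : PCrit D p) {a b : G} (ha : a ∈ D) (hb : b ∈ D) :
    blk D a = blk D b ↔ Commute a b :=
  ⟨fun he => (he ▸ (⟨hb, Commute.refl b⟩ : b ∈ blk D b) : b ∈ blk D a).2,
    fun hc => h.blk_eq_of_commute ha hb hc⟩

theorem cjSet_eq_iff (h : PCrit D p) {g d : G} (hd : d ∈ D) :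
    cjSet g (blk D d) = blk D d ↔ g ∈ h.stabBlk hd := by
  rw [h.cjSet_blk, h.blk_eq_iff (h.conj_mem hd g) hd, h.mem_stabBlk]

theorem cjSet_mem (h : PCrit D p) {g : G} {β : Set G} (hβ : β ∈ blocks D) :
    cjSet g β ∈ blocks D := by
  obtain ⟨d, hd, rfl⟩ := hβ
  exact ⟨_, h.conj_mem hd g, (h.cjSet_blk g d).symm⟩

theorem fixed_modEq (h : PCrit D p) {s : Set (Set G)} {g : G} (hg : g ^ p = 1)
    (hmaps : ∀ β ∈ s, cjSet g β ∈ s) :
    s.ncard ≡ {β ∈ s | cjSet g β = β}.ncard [MOD p] := by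
  have := Fact.mk h.prime
  refine ncard_fixed_modEq (n := 1) (Set.toFinite s) (cjSet g) hmaps fun β _ => ?_
  rw [cjSet_iterate, pow_one, hg, cjSet]
  simp

variable (hpair : ∃ x ∈ D, ∃ y ∈ D, Commute x y ∧ x ≠ y)
include hpair

theorem ncard_swp_eq (h : PCrit D p) {a b : G} (ha : a ∈ D) (hb : b ∈ D) (hab : ¬ Commute a b) :
    (swp D a b).ncard = p :=
  (h.ncard_swp ha hb hab).trans (h.ncard_blk_eq hpair hb)

theorem exists_two (h : PCrit D p) {a : G} (ha : a ∈ D) :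
    ∃ a' ∈ blk D a, a' ≠ a := by
  obtain ⟨u, hu, hne⟩ := Set.exists_ne_of_one_lt_ncard (s := blk D a)
    (by rw [h.ncard_blk_eq hpair ha]; exact h.prime.one_lt) a
  exact ⟨u, hu, hne⟩

theorem swp_line (h : PCrit D p) {a b d₀ d₁ d : G} (ha : a ∈ D) (hb : b ∈ D)
    (hab : ¬ Commute a b) (h0 : d₀ ∈ swp D a b) (h1 : d₁ ∈ swp D a b) (hne : d₀ ≠ d₁)
    (hd : d ∈ swp D a b) : ∃ i : ℕ, d = d₀ * (d₀ * d₁) ^ i := by
  set f : ℕ → G := fun i => d₀ * (d₀ * d₁) ^ i with hf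
  have hsub : f '' Set.Iio p ⊆ swp D a b := by
    rintro _ ⟨i, -, rfl⟩
    exact refl_mem (fun c hc => h.inv c hc.1) (fun c hc c' hc' => h.swp_closed ha hb hc hc') h0 h1 i
  have hcard : (f '' Set.Iio p).ncard = p := by
    rw [Set.InjOn.ncard_image, ← Finset.coe_Iio, Set.ncard_coe_finset, Nat.card_Iio]
    intro i hi j hj hij
    have hord := h.swp_order ha hb hab h0 h1 hne
    exact pow_injOn_Iio_orderOf (hord.symm ▸ hi : i < orderOf (d₀ * d₁))
      (hord.symm ▸ hj : j < orderOf (d₀ * d₁)) (mul_left_cancel hij)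
  have he := Set.eq_of_subset_of_ncard_le hsub
    (by rw [hcard, h.ncard_swp_eq hpair ha hb hab]) (Set.toFinite _)
  rw [← he] at hd
  obtain ⟨i, -, rfl⟩ := hd
  exact ⟨i, rfl⟩

theorem swp_mul_mem (h : PCrit D p) {a b d₀ d₁ d d' : G} (ha : a ∈ D) (hb : b ∈ D)
    (hab : ¬ Commute a b) (h0 : d₀ ∈ swp D a b) (h1 : d₁ ∈ swp D a b) (hne : d₀ ≠ d₁)
    (hd : d ∈ swp D a b) (hd' : d' ∈ swp D a b) : d * d' ∈ zpowers (d₀ * d₁) := by
  obtain ⟨i, rfl⟩ := h.swp_line hpair ha hb hab h0 h1 hne hd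
  obtain ⟨j, rfl⟩ := h.swp_line hpair ha hb hab h0 h1 hne hd'
  have he : d₀ * (d₀ * d₁) ^ i * (d₀ * (d₀ * d₁) ^ j) =
      ((d₀ * d₁) ^ i)⁻¹ * (d₀ * d₁) ^ j := by
    rw [← mul_assoc, conj_prod_pow (h.inv _ h0.1) (h.inv _ h1.1)]
  rw [he]
  exact mul_mem (inv_mem (pow_mem (mem_zpowers _) _)) (pow_mem (mem_zpowers _) _)

theorem swp_inverts (h : PCrit D p) {a b d₀ d₁ d : G} (ha : a ∈ D) (hb : b ∈ D)
    (hab : ¬ Commute a b) (h0 : d₀ ∈ swp D a b) (h1 : d₁ ∈ swp D a b) (hne : d₀ ≠ d₁)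
    (hd : d ∈ swp D a b) {g : G} (hg : g ∈ zpowers (d₀ * d₁)) : d * g * d⁻¹ = g⁻¹ := by
  obtain ⟨n, rfl⟩ := hg
  obtain ⟨i, rfl⟩ := h.swp_line hpair ha hb hab h0 h1 hne hd
  have e2 : d₀ * (d₀ * d₁) ^ n * d₀⁻¹ = ((d₀ * d₁) ^ n)⁻¹ := by
    rw [← conj_zpow, conj_eq (h.inv _ h0.1), conj_prod (h.inv _ h0.1) (h.inv _ h1.1), inv_zpow]
  rw [← e2]
  group

omit hpair in
/-- The only power of a line element fixing a point of the block is trivial. -/
theorem line_pow_free (h : PCrit D p) {a b d₀ d₁ g : G} (ha : a ∈ D) (hb : b ∈ D)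
    (hab : ¬ Commute a b) (h0 : d₀ ∈ swp D a b) (h1 : d₁ ∈ swp D a b) (hne : d₀ ≠ d₁)
    {c : G} (hc : c ∈ blk D a) (hg : g ∈ zpowers (d₀ * d₁)) (hgc : Commute g c) : g = 1 := by
  have := Fact.mk h.prime
  by_contra hg1
  have hord := h.swp_order ha hb hab h0 h1 hne
  have hle : zpowers g ≤ zpowers (d₀ * d₁) := zpowers_le.2 hg
  have heq : zpowers g = zpowers (d₀ * d₁) := by
    refine eq_of_le_of_card_ge hle ?_
    rw [Nat.card_zpowers, Nat.card_zpowers, hord]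
    have hd : orderOf g ∣ p := by
      rw [← hord, ← Nat.card_zpowers (d₀ * d₁), ← orderOf_mk g hg]
      exact orderOf_dvd_natCard _
    rcases (Nat.dvd_prime h.prime).1 hd with h2 | h2
    · exact absurd (orderOf_eq_one_iff.1 h2) hg1
    · rw [h2]
  obtain ⟨n, hn⟩ := (heq ▸ mem_zpowers (d₀ * d₁) : d₀ * d₁ ∈ zpowers g)
  refine h.line_free ha hab h0 h1 hne hc ?_
  rw [← hn]
  show g ^ n * c * (g ^ n)⁻¹ = c
  rw [(hgc.zpow_left n).eq, mul_inv_cancel_right]

theorem line_orbit (h : PCrit D p) {a b d₀ d₁ : G} (ha : a ∈ D) (hb : b ∈ D)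
    (hab : ¬ Commute a b) (h0 : d₀ ∈ swp D a b) (h1 : d₁ ∈ swp D a b) (hne : d₀ ≠ d₁)
    {c : G} (hc : c ∈ blk D a) :
    ∃ i < p, (d₀ * d₁) ^ i * a * ((d₀ * d₁) ^ i)⁻¹ = c := by
  set g := d₀ * d₁ with hg
  set f : ℕ → G := fun i => g ^ i * a * (g ^ i)⁻¹ with hf
  have hstep : ∀ i : ℕ, f i ∈ blk D a := by
    intro i
    induction i with
    | zero =>
      simp only [hf, pow_zero, one_mul, inv_one, mul_one]
      exact ⟨ha, Commute.refl a⟩
    | succ i ih =>
      have he : f (i + 1) = g * f i * g⁻¹ := by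
        simp only [hf, pow_succ', mul_inv_rev, mul_assoc]
      exact he ▸ h.pair_line ha hb h0 h1 ih
  have hcard : (f '' Set.Iio p).ncard = p := by
    rw [Set.InjOn.ncard_image, ← Finset.coe_Iio, Set.ncard_coe_finset, Nat.card_Iio]
    intro i hi j hj hij
    have hfix : Commute ((g ^ j)⁻¹ * g ^ i) a := by
      refine mul_inv_eq_iff_eq_mul.1 ?_
      calc (g ^ j)⁻¹ * g ^ i * a * ((g ^ j)⁻¹ * g ^ i)⁻¹ = (g ^ j)⁻¹ * f i * g ^ j := by
            simp only [hf]; group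
        _ = (g ^ j)⁻¹ * f j * g ^ j := by rw [hij]
        _ = a := by simp only [hf]; group
    have h2 := h.line_pow_free ha hb hab h0 h1 hne ⟨ha, Commute.refl a⟩
      (mul_mem (inv_mem (pow_mem (mem_zpowers g) j)) (pow_mem (mem_zpowers g) i)) hfix
    have hord := h.swp_order ha hb hab h0 h1 hne
    exact (pow_injOn_Iio_orderOf (hord.symm ▸ hj : j < orderOf g)
      (hord.symm ▸ hi : i < orderOf g) (inv_mul_eq_one.1 h2)).symm
  have he := Set.eq_of_subset_of_ncard_le (by rintro _ ⟨i, -, rfl⟩; exact hstep i :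
    f '' Set.Iio p ⊆ blk D a) (by rw [hcard, h.ncard_blk_eq hpair ha]) (Set.toFinite _)
  rw [← he] at hc
  obtain ⟨i, hi, rfl⟩ := hc
  exact ⟨i, hi, rfl⟩

/-- An element commuting with a line and stabilising its block agrees with a power of it there. -/
theorem exists_pow_on_blk (h : PCrit D p) {a b d₀ d₁ c : G} (ha : a ∈ D) (hb : b ∈ D)
    (hab : ¬ Commute a b) (h0 : d₀ ∈ swp D a b) (h1 : d₁ ∈ swp D a b) (hne : d₀ ≠ d₁)
    (hc : Commute c (d₀ * d₁)) (hca : c ∈ h.stabBlk ha) :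
    ∃ j < p, ∀ x ∈ blk D a, Commute (((d₀ * d₁) ^ j)⁻¹ * c) x := by
  obtain ⟨j, hj, hje⟩ := h.line_orbit hpair ha hb hab h0 h1 hne (c := c * a * c⁻¹)
    ⟨h.conj_mem ha c, hca.symm⟩
  refine ⟨j, hj, fun x hx => ?_⟩
  obtain ⟨i, -, rfl⟩ := h.line_orbit hpair ha hb hab h0 h1 hne hx
  set g := d₀ * d₁
  have hk : Commute ((g ^ j)⁻¹ * c) (g ^ i) :=
    (((Commute.refl g).pow_pow j i).inv_left).mul_left (hc.pow_right i)
  have hka : Commute ((g ^ j)⁻¹ * c) a := by
    refine mul_inv_eq_iff_eq_mul.1 ?_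
    calc (g ^ j)⁻¹ * c * a * ((g ^ j)⁻¹ * c)⁻¹ = (g ^ j)⁻¹ * (c * a * c⁻¹) * g ^ j := by group
      _ = a := by rw [← hje]; group
  exact (hk.mul_right hka).mul_right hk.inv_right

theorem exists_line (h : PCrit D p) {a b : G} (ha : a ∈ D) (hb : b ∈ D) (hab : ¬ Commute a b) :
    ∃ d₀ ∈ swp D a b, ∃ d₁ ∈ swp D a b, d₀ ≠ d₁ :=
  (Set.one_lt_ncard (Set.toFinite _)).1
    (by rw [h.ncard_swp_eq hpair ha hb hab]; exact h.prime.one_lt)

theorem ncard_D (h : PCrit D p) : D.ncard = (blocks D).ncard * p := by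
  classical
  obtain ⟨s, rfl⟩ := (Set.toFinite D).exists_finset_coe
  have hb : blocks (↑s : Set G) = ↑(s.image (blk (↑s : Set G))) := by
    rw [Finset.coe_image]; rfl
  rw [hb, Set.ncard_coe_finset, Set.ncard_coe_finset,
    Finset.card_eq_sum_card_image (blk (↑s : Set G)) s, ← smul_eq_mul, ← Finset.sum_const]
  refine Finset.sum_congr rfl fun β hβ => ?_
  obtain ⟨d, hd, rfl⟩ := Finset.mem_image.1 hβ
  have hd' : d ∈ (↑s : Set G) := hd
  rw [← h.ncard_blk_eq hpair hd', ← Set.ncard_coe_finset]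
  congr 1
  ext e
  simp only [Finset.coe_filter, Set.mem_ofPred_eq]
  exact ⟨fun he => ⟨he.1, ((h.blk_eq_iff he.1 hd').1 he.2).symm⟩,
    fun he => ⟨he.1, (h.blk_eq_iff he.1 hd').2 he.2.symm⟩⟩

theorem dvd_ncard_blocks (h : PCrit D p) : p ∣ (blocks D).ncard := by
  classical
  obtain ⟨x, hx, -⟩ := id hpair
  by_cases hex : ∃ z ∈ D, ¬ Commute x z ∧ ∀ d ∈ D, ¬ Commute (x * z * d * (x * z)⁻¹) d
  · obtain ⟨z, hz, hxz, hfree⟩ := hex
    have h1 := h.fixed_modEq (s := blocks D) (g := x * z)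
      (by rw [← h.order_of_not hx hz hxz, pow_orderOf_eq_one]) fun β hβ => h.cjSet_mem hβ
    have hempty : {β ∈ blocks D | cjSet (x * z) β = β} = ∅ := by
      refine Set.eq_empty_of_forall_notMem ?_
      rintro β ⟨⟨d, hd, rfl⟩, he⟩
      exact hfree d hd ((h.cjSet_eq_iff hd).1 he)
    rw [hempty, Set.ncard_empty] at h1
    exact Nat.modEq_zero_iff_dvd.1 h1
  exfalso
  push Not at hex
  let T : Set G → Set G := fun β => {z | z ≠ x ∧ ∀ d ∈ β, z ∈ swp D d (x * d * x⁻¹)}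
  obtain ⟨s, hs⟩ := (Set.toFinite (blocks D \ {blk D x})).exists_finset_coe
  have hsub : D \ blk D x ⊆ ⋃ β ∈ s, T β := by
    rintro z ⟨hz, hzx⟩
    have hxz : ¬ Commute x z := fun hc => hzx ⟨hz, hc⟩
    obtain ⟨d, hd, hfix⟩ := hex z hz hxz
    refine Set.mem_iUnion₂.2 ⟨blk D d, ?_, fun he => hxz (he ▸ Commute.refl x), fun c hc => ?_⟩
    · rw [← Finset.mem_coe, hs]
      refine ⟨⟨d, hd, rfl⟩, fun he => hxz ?_⟩
      rw [Set.mem_singleton_iff, h.blk_eq_iff hd hx] at he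
      have h1 : x * z ∈ h.stabBlk hx := by
        refine h.ctrans (h.conj_mem hx _) (h.conj_mem hd (x * z)) hx ?_ ?_
        · exact (Commute.conj_iff (x * z)).2 he.symm
        · exact h.ctrans (h.conj_mem hd _) hd hx hfix he
      have h2 : x ∈ h.stabBlk hx := by
        rw [h.mem_stabBlk, mul_inv_cancel_right]
      have h3 := (h.stabBlk hx).mul_mem h2 h1
      rw [Invol.mul_mul_cancel_self (h.inv x hx), h.mem_stabBlk] at h3
      exact (h.fixes_own hz hx h3).symm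
    · refine ⟨hz, ?_⟩
      have hcfix : Commute (x * z * c * (x * z)⁻¹) c :=
        h.ctrans (h.conj_mem hc.1 _) (h.conj_mem hd _) hc.1 ((Commute.conj_iff (x * z)).2 hc.2.symm)
          (h.ctrans (h.conj_mem hd _) hd hc.1 hfix hc.2)
      have h1 := (Commute.conj_iff x).2 hcfix
      have he : x * (x * z * c * (x * z)⁻¹) * x⁻¹ = z * c * z⁻¹ := by
        rw [show x * z * c * (x * z)⁻¹ = x * (z * c * z⁻¹) * x⁻¹ by group, swap_back (h.inv x hx)]
      rwa [he] at h1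
  have hT : ∀ β ∈ s, (T β).ncard ≤ p - 1 := by
    intro β hβ
    rw [← Finset.mem_coe, hs] at hβ
    obtain ⟨⟨d, hd, rfl⟩, hne⟩ := hβ
    have hdx : ¬ Commute d x := fun hc => hne (Set.mem_singleton_iff.2 ((h.blk_eq_iff hd hx).2 hc))
    have hdd : ¬ Commute d (x * d * x⁻¹) := h.not_commute_conj hd hx hdx
    have hle : T (blk D d) ⊆ swp D d (x * d * x⁻¹) \ {x} := fun z hz =>
      ⟨hz.2 d ⟨hd, Commute.refl d⟩, hz.1⟩
    refine (Set.ncard_le_ncard hle (Set.toFinite _)).trans ?_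
    rw [Set.ncard_sdiff_singleton_of_mem (show x ∈ swp D d (x * d * x⁻¹) from ⟨hx, Commute.refl _⟩),
      h.ncard_swp_eq hpair hd (h.conj_mem hd x) hdd]
  have hsum := (Set.ncard_le_ncard hsub (Set.toFinite _)).trans
    ((Finset.set_ncard_biUnion_le s T).trans (Finset.sum_le_card_nsmul s _ _ hT))
  have hscard : s.card = (blocks D).ncard - 1 := by
    rw [← Set.ncard_coe_finset, hs,
      Set.ncard_sdiff_singleton_of_mem (show blk D x ∈ blocks D from ⟨x, hx, rfl⟩)]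
  rw [smul_eq_mul, hscard, Set.ncard_sdiff (fun e he => he.1) (Set.toFinite _),
    h.ncard_D hpair, h.ncard_blk_eq hpair hx] at hsum
  have hN : 2 ≤ (blocks D).ncard := by
    obtain ⟨z, hz, hxz⟩ := h.exists_not_commute hx
    refine (Set.one_lt_ncard (Set.toFinite _)).2 ⟨_, ⟨x, hx, rfl⟩, _, ⟨z, hz, rfl⟩, fun he => ?_⟩
    exact hxz ((h.blk_eq_iff hx hz).1 he)
  obtain ⟨n, hn⟩ : ∃ n, (blocks D).ncard = n + 2 := ⟨_, (Nat.sub_add_cancel hN).symm⟩
  obtain ⟨q, hq⟩ : ∃ q, p = q + 1 := ⟨p - 1, by have := h.prime.pos; omega⟩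
  rw [hn, hq, show n + 2 - 1 = n + 1 by omega, show q + 1 - 1 = q by omega,
    show (n + 2) * (q + 1) - (q + 1) = (n + 1) * (q + 1) by
      rw [show (n + 2) * (q + 1) = (n + 1) * (q + 1) + (q + 1) by ring, Nat.add_sub_cancel]] at hsum
  nlinarith

/-- An element of order dividing `p` centralising a block and stabilising another is trivial. -/
theorem eq_one_of_fix_blk (h : PCrit D p) {a b c : G} (ha : a ∈ D) (hb : b ∈ D)
    (hab : ¬ Commute a b) (hcp : c ^ p = 1) (hca : ∀ x ∈ blk D a, Commute c x)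
    (hcb : c ∈ h.stabBlk hb) : c = 1 := by
  classical
  by_contra hc1
  obtain ⟨e, he, e', he', hee⟩ := h.exists_line hpair ha hb hab
  set g := e * e' with hg
  have hord := h.swp_order ha hb hab he he' hee
  have hgp : g ^ p = 1 := by rw [← hord, hg, pow_orderOf_eq_one]
  have haa : a ∈ blk D a := ⟨ha, Commute.refl a⟩
  have hmaps : ∀ d ∈ swp D a b, c * d * c⁻¹ ∈ swp D a b := by
    intro d hd
    refine ⟨h.conj_mem hd.1 c, ?_⟩
    have e1 : c * d * c⁻¹ * a * (c * d * c⁻¹)⁻¹ = c * (d * (c⁻¹ * a * c) * d⁻¹) * c⁻¹ := by group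
    have e2 : c⁻¹ * a * c = a := by rw [mul_assoc, ← (hca a haa).eq, inv_mul_cancel_left]
    rw [e1, e2]
    exact h.ctrans (h.conj_mem (h.conj_mem ha d) c) (h.conj_mem hb c) hb
      ((Commute.conj_iff c).2 hd.2) hcb
  have hcg : Commute c g := by
    have h1 : c * g * c⁻¹ ∈ zpowers g := by
      rw [hg, show c * (e * e') * c⁻¹ = c * e * c⁻¹ * (c * e' * c⁻¹) by group]
      exact h.swp_mul_mem hpair ha hb hab he he' hee (hmaps e he) (hmaps e' he')
    have h2 : g⁻¹ * (c * g * c⁻¹) = 1 := by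
      refine h.line_pow_free ha hb hab he he' hee haa (mul_mem (inv_mem (mem_zpowers g)) h1) ?_
      refine mul_inv_eq_iff_eq_mul.1 ?_
      have hga : g * a * g⁻¹ ∈ blk D a := h.pair_line ha hb he he' haa
      calc g⁻¹ * (c * g * c⁻¹) * a * (g⁻¹ * (c * g * c⁻¹))⁻¹
          = g⁻¹ * (c * (g * (c⁻¹ * a * c) * g⁻¹) * c⁻¹) * g := by group
        _ = g⁻¹ * (c * (g * a * g⁻¹) * c⁻¹) * g := by
            rw [show c⁻¹ * a * c = a by rw [mul_assoc, ← (hca a haa).eq, inv_mul_cancel_left]]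
        _ = g⁻¹ * (g * a * g⁻¹) * g := by rw [(hca _ hga).eq, mul_inv_cancel_right]
        _ = a := by group
    exact mul_inv_eq_iff_eq_mul.1 (inv_mul_eq_one.1 h2).symm
  obtain ⟨i, hi⟩ := h.swp_line hpair ha hb hab he he' hee (hmaps e he)
  have hece : e * c * e = g ^ i * c := by
    have h1 : c * e = e * g ^ i * c := mul_inv_eq_iff_eq_mul.1 hi
    have h2 : e * g ^ i * e = (g ^ i)⁻¹ := conj_prod_pow (h.inv e he.1) (h.inv e' he'.1) i
    have h3 : e * c * e = g ^ i * c := by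
      rw [mul_assoc, h1, ← mul_assoc, ← mul_assoc, Invol.mul_self_eq_one (h.inv e he.1), one_mul]
    exact h3
  let F : Set (Set G) := {β ∈ blocks D | cjSet c β = β ∧ cjSet g β = β}
  have hga : g ∈ h.stabBlk ha := (h.pair_line ha hb he he' haa).2.symm
  have haF : blk D a ∈ F := ⟨⟨a, ha, rfl⟩, (h.cjSet_eq_iff ha).2 (by
    rw [h.mem_stabBlk, (hca a haa).eq, mul_inv_cancel_right]), (h.cjSet_eq_iff ha).2 hga⟩
  -- the number of fixed blocks is divisible by `p`
  have hFp : p ∣ F.ncard := by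
    have h1 := h.fixed_modEq hcp (fun β (hβ : β ∈ blocks D) => h.cjSet_mem hβ)
    have h2 := h.fixed_modEq (s := {β ∈ blocks D | cjSet c β = β}) hgp (by
      rintro β ⟨hβ, hfix⟩
      refine ⟨h.cjSet_mem hβ, ?_⟩
      have : cjSet c (cjSet g β) = cjSet g (cjSet c β) := by
        simp only [cjSet, Set.image_image]
        refine Set.image_congr fun x _ => ?_
        rw [show c * (g * x * g⁻¹) * c⁻¹ = c * g * x * (c * g)⁻¹ by group, hcg.eq]
        group
      rw [this, hfix])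
    have he2 : {β ∈ {β ∈ blocks D | cjSet c β = β} | cjSet g β = β} = F := by
      ext β; simp only [F, Set.mem_ofPred_eq, and_assoc]
    rw [he2] at h2
    exact Nat.modEq_zero_iff_dvd.1
      ((h1.trans h2).symm.trans (Nat.modEq_zero_iff_dvd.2 (h.dvd_ncard_blocks hpair)))
  have hgi : ∀ {d : G} (hd : d ∈ D), cjSet c (blk D d) = blk D d → cjSet g (blk D d) = blk D d →
      g ^ i * c ∈ h.stabBlk hd ∧ e * g * e ∈ h.stabBlk hd := by
    intro d hd h1 h2
    refine ⟨mul_mem (pow_mem ((h.cjSet_eq_iff hd).1 h2) i) ((h.cjSet_eq_iff hd).1 h1), ?_⟩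
    rw [hg, conj_prod (h.inv e he.1) (h.inv e' he'.1)]
    exact inv_mem ((h.cjSet_eq_iff hd).1 h2)
  -- and even
  have hFeven : Even F.ncard := by
    refine even_ncard_of_free (Set.toFinite F) (cjSet e) ?_ (fun β _ => ?_) ?_
    · rintro _ ⟨⟨d, hd, rfl⟩, h1, h2⟩
      obtain ⟨k1, k2⟩ := hgi hd h1 h2
      rw [h.cjSet_blk e d]
      refine ⟨⟨_, h.conj_mem hd e, rfl⟩, (h.cjSet_eq_iff (h.conj_mem hd e)).2 ?_,
        (h.cjSet_eq_iff (h.conj_mem hd e)).2 ?_⟩
      · rw [h.mem_stabBlk]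
        have h3 := (Commute.conj_iff e).2 k1
        rw [← hece] at h3
        have e4 : e * (e * c * e * d * (e * c * e)⁻¹) * e⁻¹ = c * (e * d * e⁻¹) * c⁻¹ := by
          calc e * (e * c * e * d * (e * c * e)⁻¹) * e⁻¹
              = (e * e) * c * e * d * e⁻¹ * c⁻¹ * (e * e)⁻¹ := by group
            _ = _ := by rw [Invol.mul_self_eq_one (h.inv e he.1)]; group
        rwa [e4] at h3
      · rw [h.mem_stabBlk]
        have h3 := (Commute.conj_iff e).2 k2
        have e4 : e * (e * g * e * d * (e * g * e)⁻¹) * e⁻¹ = g * (e * d * e⁻¹) * g⁻¹ := by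
          calc e * (e * g * e * d * (e * g * e)⁻¹) * e⁻¹
              = (e * e) * g * e * d * e⁻¹ * g⁻¹ * (e * e)⁻¹ := by group
            _ = _ := by rw [Invol.mul_self_eq_one (h.inv e he.1)]; group
        rwa [e4] at h3
    · have := cjSet_iterate e β 2
      rw [pow_two, Invol.mul_self_eq_one (h.inv e he.1)] at this
      simpa [cjSet] using this
    · rintro _ ⟨⟨d, hd, rfl⟩, -, h2⟩ hfix
      have hed := h.fixes_own he.1 hd ((h.cjSet_eq_iff hd).1 hfix)
      have hge : g ∈ h.stabBlk he.1 := by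
        refine h.ctrans (h.conj_mem he.1 g) (h.conj_mem hd g) he.1 ((Commute.conj_iff g).2 hed) ?_
        exact h.ctrans (h.conj_mem hd g) hd he.1 ((h.cjSet_eq_iff hd).1 h2) hed.symm
      have hee' : e ∈ h.stabBlk he.1 := by rw [h.mem_stabBlk, mul_inv_cancel_right]
      have h3 := mul_mem hee' hge
      rw [hg, Invol.mul_mul_cancel_self (h.inv e he.1), h.mem_stabBlk] at h3
      exact h.swp_pair ha hb hab he he' hee (h.fixes_own he'.1 he.1 h3).symm
  -- and at most `p`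
  have hsel : ∀ β ∈ F, ∃ j < p, ∀ x ∈ β, Commute ((g ^ j)⁻¹ * c) x := by
    rintro _ ⟨⟨d, hd, rfl⟩, h1, h2⟩
    have hdne : ¬ Commute e d := fun hc => by
      have hge : g ∈ h.stabBlk he.1 := by
        refine h.ctrans (h.conj_mem he.1 g) (h.conj_mem hd g) he.1 ((Commute.conj_iff g).2 hc) ?_
        exact h.ctrans (h.conj_mem hd g) hd he.1 ((h.cjSet_eq_iff hd).1 h2) hc.symm
      have hee' : e ∈ h.stabBlk he.1 := by rw [h.mem_stabBlk, mul_inv_cancel_right]
      have h3 := mul_mem hee' hge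
      rw [hg, Invol.mul_mul_cancel_self (h.inv e he.1), h.mem_stabBlk] at h3
      exact h.swp_pair ha hb hab he he' hee (h.fixes_own he'.1 he.1 h3).symm
    have hs0 : e ∈ swp D d (e * d * e⁻¹) := ⟨he.1, Commute.refl _⟩
    have hs1 : e' ∈ swp D d (e * d * e⁻¹) := by
      refine ⟨he'.1, ?_⟩
      have h3 := (Commute.conj_iff e).2 ((h.cjSet_eq_iff hd).1 h2)
      rwa [hg, show e * e' * d * (e * e')⁻¹ = e * (e' * d * e'⁻¹) * e⁻¹ by group,
        swap_back (h.inv e he.1)] at h3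
    exact h.exists_pow_on_blk hpair hd (h.conj_mem hd e)
      (h.not_commute_conj hd he.1 fun c => hdne c.symm) hs0 hs1 hee hcg ((h.cjSet_eq_iff hd).1 h1)
  choose! j hjlt hj using hsel
  have hinj : Set.InjOn j F := by
    rintro _ hβ _ hγ hjj
    by_contra hne
    obtain ⟨d, hd, rfl⟩ := hβ.1
    obtain ⟨d', hd', rfl⟩ := hγ.1
    have hdd : ¬ Commute d d' := fun hc => hne (h.blk_eq_of_commute hd hd' hc)
    obtain ⟨u, hu, hud⟩ := h.exists_two hpair hd
    have hk : (g ^ j (blk D d))⁻¹ * c = 1 :=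
      h.eq_one_of_three hd hu.1 hd' hu.2 hud.symm hdd (hj _ hβ d ⟨hd, Commute.refl d⟩)
        (hj _ hβ u hu) (hjj ▸ hj _ hγ d' ⟨hd', Commute.refl d'⟩)
    have hcg' : c = g ^ j (blk D d) := (inv_mul_eq_one.1 hk).symm
    exact hc1 (h.line_pow_free ha hb hab he he' hee haa (hcg' ▸ pow_mem (mem_zpowers g) _)
      (hca a haa))
  have hle : F.ncard ≤ p := by
    have h1 := Set.ncard_le_ncard_of_injOn j (t := Set.Iio p) (fun β hβ => hjlt β hβ) hinj
      (Set.finite_Iio p)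
    rwa [← Finset.coe_Iio, Set.ncard_coe_finset, Nat.card_Iio] at h1
  have hpos : 0 < F.ncard := (Set.ncard_pos (Set.toFinite _)).2 ⟨_, haF⟩
  have := h.odd
  obtain ⟨k, hk⟩ := hFeven
  rw [Nat.odd_iff] at this
  have := Nat.le_of_dvd hpos hFp
  omega

/-- There is no commuting pair in a critical configuration. -/
theorem absurd_pair (h : PCrit D p) : False := by
  classical
  have := Fact.mk h.prime
  obtain ⟨x, hx, -⟩ := id hpair
  obtain ⟨z, hz, hxz⟩ := h.exists_not_commute hx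
  obtain ⟨e, he, e', he', hee⟩ := h.exists_line hpair hx hz hxz
  set g := e * e' with hg
  have hord : orderOf g = p := h.swp_order hx hz hxz he he' hee
  have hgp : g ^ p = 1 := by rw [← hord, pow_orderOf_eq_one]
  have hg1 : g ≠ 1 := fun h1 => h.prime.ne_one (by rw [← hord, h1, orderOf_one])
  have hgx : g ∈ h.stabBlk hx := (h.pair_line hx hz he he' ⟨hx, Commute.refl x⟩).2.symm
  have hgz : g ∈ h.stabBlk hz :=
    (h.pair_line hz hx (h.swp_symm he) (h.swp_symm he') ⟨hz, Commute.refl z⟩).2.symm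
  let F : Set (Set G) := {β ∈ blocks D | cjSet g β = β}
  have hxF : blk D x ∈ F := ⟨⟨x, hx, rfl⟩, (h.cjSet_eq_iff hx).2 hgx⟩
  have hzF : blk D z ∈ F := ⟨⟨z, hz, rfl⟩, (h.cjSet_eq_iff hz).2 hgz⟩
  -- `g` is a line element of each pair of fixed blocks
  have hline : ∀ {a b : G} (ha : a ∈ D) (hb : b ∈ D), ¬ Commute a b → g ∈ h.stabBlk ha →
      g ∈ h.stabBlk hb →
      (∀ d ∈ swp D a b, d * g * d⁻¹ = g⁻¹) ∧ ∀ c ∈ blk D a, ¬ Commute g c := by
    intro a b ha hb hab hga hgb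
    obtain ⟨d₀, h0, d₁, h1, hne⟩ := h.exists_line hpair ha hb hab
    set l := d₀ * d₁ with hl
    have hlord := h.swp_order ha hb hab h0 h1 hne
    have hmaps : ∀ d ∈ swp D a b, g * d * g⁻¹ ∈ swp D a b := by
      intro d hd
      refine ⟨h.conj_mem hd.1 g, ?_⟩
      have hga' : Commute (g⁻¹ * a * g) a := by
        simpa using (h.mem_stabBlk ha).1 (inv_mem hga)
      have e1 : g * d * g⁻¹ * a * (g * d * g⁻¹)⁻¹ = g * (d * (g⁻¹ * a * g) * d⁻¹) * g⁻¹ := by group
      rw [e1]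
      have h3 : Commute (d * (g⁻¹ * a * g) * d⁻¹) b :=
        h.swp_step ha hb (by simpa using h.conj_mem ha g⁻¹) hd hga'
      exact h.ctrans (h.conj_mem (h.conj_mem (by simpa using h.conj_mem ha g⁻¹) d) g)
        (h.conj_mem hb g) hb ((Commute.conj_iff g).2 h3) hgb
    have hgl : Commute g l := by
      obtain ⟨k, hk⟩ : g * l * g⁻¹ ∈ zpowers l := by
        rw [hl, show g * (d₀ * d₁) * g⁻¹ = g * d₀ * g⁻¹ * (g * d₁ * g⁻¹) by group]
        exact h.swp_mul_mem hpair ha hb hab h0 h1 hne (hmaps _ h0) (hmaps _ h1)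
      have hk' : g * l * g⁻¹ = l ^ k := hk.symm
      have hit : ∀ n : ℕ, (fun y => g * y * g⁻¹)^[n] l = l ^ (k ^ n) := by
        intro n
        induction n with
        | zero => simp
        | succ n ih =>
          rw [Function.iterate_succ_apply', ih, ← conj_zpow, hk', ← zpow_mul, pow_succ']
      have h2 := hit p
      rw [conj_iterate, hgp, one_mul, inv_one, mul_one] at h2
      have h3 : (l : G) ^ (k ^ p) = l ^ k := by
        rw [zpow_eq_zpow_iff_modEq, hlord, ← ZMod.intCast_eq_intCast_iff, Int.cast_pow,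
          ZMod.pow_card]
      rw [← h2] at h3
      exact mul_inv_eq_iff_eq_mul.1 (hk'.trans h3.symm)
    obtain ⟨j, -, hj⟩ := h.exists_pow_on_blk hpair ha hb hab h0 h1 hne hgl hga
    have hlp : l ^ p = 1 := by rw [← hlord, hl, pow_orderOf_eq_one]
    have hcp : ((l ^ j)⁻¹ * g) ^ p = 1 := by
      rw [((hgl.symm.pow_left j).inv_left).mul_pow, inv_pow, ← pow_mul, mul_comm, pow_mul, hlp,
        one_pow, inv_one, one_mul, hgp]
    have hlb : l ∈ h.stabBlk hb :=
      (h.pair_line hb ha (h.swp_symm h0) (h.swp_symm h1) ⟨hb, Commute.refl b⟩).2.symm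
    have hc1 := h.eq_one_of_fix_blk hpair ha hb hab hcp hj (mul_mem (inv_mem (pow_mem hlb j)) hgb)
    have hgj : g = l ^ j := (inv_mul_eq_one.1 hc1).symm
    refine ⟨fun d hd => h.swp_inverts hpair ha hb hab h0 h1 hne hd
      (hgj ▸ pow_mem (mem_zpowers l) j), fun c hc hcomm => hg1 ?_⟩
    exact h.line_pow_free ha hb hab h0 h1 hne hc (hgj ▸ pow_mem (mem_zpowers l) j) hcomm
  have hfree : ∀ {a : G} (ha : a ∈ D), g ∈ h.stabBlk ha → ∀ c ∈ blk D a, ¬ Commute g c := by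
    intro a ha hga
    by_cases hax : Commute a x
    · exact (hline ha hz (fun hc => hxz (h.ctrans hx ha hz hax.symm hc)) hga hgz).2
    · exact (hline ha hx hax hga hgx).2
  let I : Set G := {d ∈ D | d * g * d⁻¹ = g⁻¹}
  have hIF : ∀ {a : G} (ha : a ∈ D), g ∈ h.stabBlk ha → ∀ d ∈ I,
      g ∈ h.stabBlk (h.conj_mem ha d) ∧ ¬ Commute d a := by
    intro a ha hga d hd
    constructor
    · rw [h.mem_stabBlk]
      have h1 := (Commute.conj_iff d).2 (inv_mem hga : g⁻¹ ∈ h.stabBlk ha)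
      rw [show d * (g⁻¹ * a * g⁻¹⁻¹) * d⁻¹ =
          d * g⁻¹ * d⁻¹ * (d * a * d⁻¹) * (d * g⁻¹ * d⁻¹)⁻¹ by group,
        ← conj_inv, hd.2, inv_inv] at h1
      exact h1
    · intro hc
      have hdd : Commute (g * d * g⁻¹) d :=
        h.ctrans (h.conj_mem hd.1 g) (h.conj_mem ha g) hd.1 ((Commute.conj_iff g).2 hc)
          (h.ctrans (h.conj_mem ha g) ha hd.1 hga hc.symm)
      have h0 : d * g = g⁻¹ * d := mul_inv_eq_iff_eq_mul.1 hd.2
      have h0' : d * g⁻¹ = g * d := by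
        rw [mul_inv_eq_iff_eq_mul, mul_assoc, h0, mul_inv_cancel_left]
      have h2 : g * d * g⁻¹ = g * g * d := by rw [mul_assoc, h0', ← mul_assoc]
      rw [h2] at hdd
      have h3 : Commute (g * g) d := by
        have := hdd.mul_left (Commute.refl d)
        rwa [mul_assoc (g * g), Invol.mul_self_eq_one (h.inv d hd.1), mul_one] at this
      have h4 : d * (g * g) * d⁻¹ = (g * g)⁻¹ := by rw [← conj_mul, hd.2]; exact (mul_inv_rev g g).symm
      have h5 := eq_one_of_inverted h3.symm h4 (by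
        rw [← pow_two, Nat.Coprime.orderOf_pow (by rw [hord]; exact h.odd.coprime_two_right), hord]
        exact h.odd)
      rw [← pow_two, ← orderOf_dvd_iff_pow_eq_one, hord] at h5
      have := Nat.le_of_dvd (by norm_num) h5
      have := h.five
      omega
  -- the number of inverting members
  have hfib : I.ncard = (F.ncard - 1) * p := by
    obtain ⟨s, hs⟩ := (Set.toFinite I).exists_finset_coe
    let f : G → Set G := fun d => blk D (d * x * d⁻¹)
    have himg : (↑(s.image f) : Set (Set G)) = F \ {blk D x} := by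
      rw [Finset.coe_image, hs]
      ext β
      constructor
      · rintro ⟨d, hd, rfl⟩
        refine ⟨⟨⟨_, h.conj_mem hx d, rfl⟩, (h.cjSet_eq_iff (h.conj_mem hx d)).2
          (hIF hx hgx d hd).1⟩, fun he0 => ?_⟩
        exact (hIF hx hgx d hd).2
          (h.fixes_own hd.1 hx ((h.blk_eq_iff (h.conj_mem hx d) hx).1 he0))
      · rintro ⟨⟨⟨b, hb, rfl⟩, hfix⟩, hne⟩
        have hxb : ¬ Commute x b := fun hc =>
          hne (Set.mem_singleton_iff.2 ((h.blk_eq_iff hb hx).2 hc.symm))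
        obtain ⟨d, hd, -⟩ := h.exists_line hpair hx hb hxb
        exact ⟨d, ⟨hd.1, (hline hx hb hxb hgx ((h.cjSet_eq_iff hb).1 hfix)).1 d hd⟩,
          (h.blk_eq_iff (h.conj_mem hx d) hb).2 hd.2⟩
    have hFc : F.ncard - 1 = (s.image f).card := by
      rw [← Set.ncard_coe_finset, himg, Set.ncard_sdiff_singleton_of_mem hxF]
    rw [← hs, Set.ncard_coe_finset, hFc, Finset.card_eq_sum_card_image f s, ← smul_eq_mul,
      ← Finset.sum_const]
    refine Finset.sum_congr rfl fun β hβ => ?_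
    obtain ⟨⟨⟨b, hb, rfl⟩, hfix⟩, hne⟩ := (himg ▸ Finset.mem_coe.2 hβ : β ∈ F \ {blk D x})
    have hxb : ¬ Commute x b := fun hc =>
      hne (Set.mem_singleton_iff.2 ((h.blk_eq_iff hb hx).2 hc.symm))
    rw [← h.ncard_swp_eq hpair hx hb hxb, ← Set.ncard_coe_finset]
    congr 1
    ext d
    simp only [Finset.coe_filter, Set.mem_ofPred_eq]
    constructor
    · rintro ⟨hd, hfd⟩
      have hd' : d ∈ I := hs ▸ hd
      exact ⟨hd'.1, (h.blk_eq_iff (h.conj_mem hx d) hb).1 hfd⟩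
    · intro hd
      refine ⟨?_, (h.blk_eq_iff (h.conj_mem hx d) hb).2 hd.2⟩
      rw [← Finset.mem_coe, hs]
      exact ⟨hd.1, (hline hx hb hxb hgx ((h.cjSet_eq_iff hb).1 hfix)).1 d hd⟩
  have heI : e ∈ I := ⟨he.1, h.swp_inverts hpair hx hz hxz he he' hee he (mem_zpowers g)⟩
  obtain ⟨k, hk⟩ := exists_pow_ncard_of_pairs h.prime h.two_lt.ne' (E := I)
    (fun d hd => h.inv d hd.1) (fun d hd d' hd' => ⟨h.cl d hd.1 d' hd'.1, by
      rw [show d * d' * d * g * (d * d' * d)⁻¹ = d * (d' * (d * g * d⁻¹) * d'⁻¹) * d⁻¹ by group,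
        hd.2, ← conj_inv, hd'.2, inv_inv, hd.2]⟩)
    (fun d hd d' hd' => by
      rcases eq_or_ne d d' with rfl | hne
      · exact ⟨0, by rw [Invol.mul_self_eq_one (h.inv d hd.1), orderOf_one, pow_zero]⟩
      refine ⟨1, (h.order_of_not hd.1 hd'.1 fun hc => ?_).trans (pow_one p).symm⟩
      have hu := h.pair_mem hd.1 hd'.1 hc hne
      have h1 : d * d' * g * (d * d')⁻¹ = g := by
        rw [show d * d' * g * (d * d')⁻¹ = d * (d' * g * d'⁻¹) * d⁻¹ by group, hd'.2, ← conj_inv,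
          hd.2, inv_inv]
      have h2 : Commute (d * d') g := mul_inv_eq_iff_eq_mul.1 h1
      exact hfree hu (by rw [h.mem_stabBlk, ← h2.eq, mul_inv_cancel_right]) _
        ⟨hu, Commute.refl _⟩ h2.symm) ⟨e, heI⟩
  have hFp : p ∣ F.ncard := Nat.modEq_zero_iff_dvd.1
    ((h.fixed_modEq hgp fun β (hβ : β ∈ blocks D) => h.cjSet_mem hβ).symm.trans
      (Nat.modEq_zero_iff_dvd.2 (h.dvd_ncard_blocks hpair)))
  have hF2 : 2 ≤ F.ncard := (Set.one_lt_ncard (Set.toFinite _)).2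
    ⟨_, hxF, _, hzF, fun he0 => hxz ((h.blk_eq_iff hx hz).1 he0)⟩
  have hFle : F.ncard - 1 ∣ p ^ k := ⟨p, by rw [← hk, hfib]⟩
  obtain ⟨m, -, hm⟩ := (Nat.dvd_prime_pow h.prime).1 hFle
  rcases Nat.eq_zero_or_pos m with rfl | hmpos
  · have := Nat.le_of_dvd (by omega) hFp
    rw [pow_zero] at hm
    have := h.five
    omega
  · have h1 : p ∣ F.ncard - 1 := hm ▸ dvd_pow_self p hmpos.ne'
    have h2 := Nat.dvd_sub hFp h1
    rw [show F.ncard - (F.ncard - 1) = 1 by omega] at h2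
    exact h.prime.one_lt.ne' (Nat.dvd_one.1 h2)

end PCrit

end Cfsg.Agent.RankThreeInvol
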