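import Cfsg.Agent.RankThreeInvol.CommP.Lines

/-!
# Commuting members of a commute-or-order-`p` class have products in the 2-core
-/

set_option autoImplicit false

namespace Cfsg.Agent.RankThreeInvol

open Subgroup

universe u

variable {G : Type u} [Group G] [Finite G] {D : Set G} {p : ℕ}

omit [Finite G] in
theorem PClass.quotient (h : PClass D p) {N : Subgroup G} [N.Normal] (hN : N ≠ ⊤) :
    PClass (QuotientGroup.mk' N '' D) p := by
  set f := QuotientGroup.mk' N
  obtain ⟨d₀, hd₀, hD⟩ := h.cls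
  have hout : ∀ d ∈ D, d ∉ N := by
    intro d hd hdN
    refine hN (eq_top_iff.2 ?_)
    rw [← h.gen, closure_le]
    intro e he
    obtain ⟨g, rfl⟩ := h.exists_conj hd he
    exact ‹N.Normal›.conj_mem d hdN g
  refine ⟨h.prime, h.five, ?_, ⟨f d₀, ⟨d₀, hd₀, rfl⟩, ?_⟩, ?_, ?_⟩
  · rintro _ ⟨d, hd, rfl⟩
    refine Invol.orderOf_eq_two_iff.2 ⟨fun he => hout d hd ((QuotientGroup.eq_one_iff d).1 he), ?_⟩
    rw [← map_mul, Invol.mul_self_eq_one (h.inv d hd), map_one]
  · ext a
    constructor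
    · rintro ⟨d, hd, rfl⟩
      rw [hD] at hd
      obtain ⟨g, rfl⟩ := isConj_iff.1 hd
      exact isConj_iff.2 ⟨f g, by simp⟩
    · intro ha
      obtain ⟨c, rfl⟩ := isConj_iff.1 ha
      obtain ⟨g, rfl⟩ := QuotientGroup.mk'_surjective N c
      exact ⟨g * d₀ * g⁻¹, h.conj_mem hd₀ g, by simp [f]⟩
  · rw [← MonoidHom.map_closure, h.gen, map_top_of_surjective _ (QuotientGroup.mk'_surjective N)]
  · rintro _ ⟨d, hd, rfl⟩ _ ⟨e, he, rfl⟩
    rcases h.dich d hd e he with hc | ho
    · exact Or.inl (hc.map f)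
    rcases (Nat.dvd_prime h.prime).1 (ho ▸ orderOf_map_dvd f (d * e)) with h1 | h1
    · left
      rw [orderOf_eq_one_iff, map_mul] at h1
      have hinv : f e * f e = 1 := by rw [← map_mul, Invol.mul_self_eq_one (h.inv e he), map_one]
      rw [show f d = f e from
        (mul_eq_one_iff_eq_inv.1 h1).trans (inv_eq_of_mul_eq_one_right hinv)]
    · exact Or.inr (by rw [← map_mul]; exact h1)

theorem PClass.jtype_of_ih (h : PClass D p)
    (IH : ∀ (H : Type u) [Group H] [Finite H] (E : Set H), Nat.card H < Nat.card G → PClass E p →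
      ∀ d ∈ E, ∀ e ∈ E, Commute d e → d * e ∈ Cfsg.pCore 2 H)
    {x y z : G} (hx : x ∈ D) (hy : y ∈ D) (hz : z ∈ D) (hxy : Commute x y)
    (hxz : ¬ Commute x z) (hyz : ¬ Commute y z) (hne : closure ({x, y, z} : Set G) ≠ ⊤) :
    Commute (x * y * z * (x * y)⁻¹) z := by
  have := Fact.mk Nat.prime_two
  set H := closure ({x, y, z} : Set G)
  have hxH : x ∈ H := subset_closure (by simp)
  have hyH : y ∈ H := subset_closure (by simp)
  have hzH : z ∈ H := subset_closure (by simp)
  let z₀ : H := ⟨z, hzH⟩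
  have hE : ∀ a ∈ conjugatesOf z₀, (a : G) ∈ D := by
    intro a ha
    obtain ⟨g, rfl⟩ := isConj_iff.1 ha
    exact h.conj_mem hz g
  have hmem : ∀ {a : G} (haD : a ∈ D) (haH : a ∈ H), ¬ Commute a z →
      (⟨a, haH⟩ : H) ∈ conjugatesOf z₀ := by
    intro a haD haH hn
    exact isConj_iff.2 ⟨⟨mid z a, mid_mem_subgroup hzH haH⟩, Subtype.ext
      (mid_conj' (h.inv z hz) (h.inv a haD) (h.odd_of_not hz haD fun c => hn c.symm))⟩
  have hgen : closure (conjugatesOf z₀) = ⊤ := by
    refine eq_top_iff.2 fun a _ => ?_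
    have hle : H ≤ (closure (conjugatesOf z₀)).map H.subtype := by
      refine (closure_le _).2 ?_
      rintro b (rfl | rfl | rfl)
      · exact ⟨_, subset_closure (hmem hx hxH hxz), rfl⟩
      · exact ⟨_, subset_closure (hmem hy hyH hyz), rfl⟩
      · exact ⟨_, subset_closure mem_conjugatesOf_self, rfl⟩
    obtain ⟨b, hb, he⟩ := hle a.2
    exact Subtype.ext he ▸ hb
  have hP : PClass (conjugatesOf z₀) p := by
    refine ⟨h.prime, h.five, fun a ha => ?_, ⟨z₀, mem_conjugatesOf_self, rfl⟩, hgen, ?_⟩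
    · exact (orderOf_submonoid a).symm.trans (h.inv _ (hE a ha))
    · intro a ha b hb
      rcases h.dich _ (hE a ha) _ (hE b hb) with hc | ho
      · exact Or.inl (Subtype.ext hc.eq)
      · exact Or.inr ((orderOf_submonoid (a * b)).symm.trans ho)
  have hlt : Nat.card H < Nat.card G :=
    lt_of_le_of_ne (Nat.le_of_dvd Nat.card_pos (card_subgroup_dvd_card H))
      fun he => hne (eq_top_of_card_eq _ he)
  set t : H := ⟨x, hxH⟩ * ⟨y, hyH⟩ with ht
  have htO : t ∈ Cfsg.pCore 2 H :=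
    IH H _ hlt hP _ (hmem hx hxH hxz) _ (hmem hy hyH hyz) (Subtype.ext hxy.eq)
  have hu : t * (z₀ * t⁻¹ * z₀⁻¹) ∈ Cfsg.pCore 2 H :=
    mul_mem htO (((inferInstance : (Cfsg.pCore 2 H).Normal)).conj_mem _ (inv_mem htO) z₀)
  obtain ⟨n, hn⟩ := Core.pCore_isPGroup (p := 2) (G := H) ⟨_, hu⟩
  by_contra hc
  have ho := h.order_of_not (h.conj_mem hz (x * y)) hz hc
  have hd : orderOf (x * y * z * (x * y)⁻¹ * z) ∣ 2 ^ n := by
    have h1 : (t * (z₀ * t⁻¹ * z₀⁻¹)) ^ 2 ^ n = 1 := congrArg Subtype.val hn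
    refine orderOf_dvd_of_pow_eq_one ?_
    have he : ((t * (z₀ * t⁻¹ * z₀⁻¹) : H) : G) = x * y * z * (x * y)⁻¹ * z := by
      rw [show (x * y * z * (x * y)⁻¹ * z) = x * y * z * (x * y)⁻¹ * z⁻¹ by
        rw [Invol.inv_eq_self (h.inv z hz)], ht]
      simp [z₀, mul_assoc]
    rw [← he, ← SubmonoidClass.coe_pow, h1, OneMemClass.coe_one]
  rw [ho] at hd
  have := Nat.le_of_dvd (by norm_num) (h.prime.dvd_of_dvd_pow hd)
  have := h.five
  omega

/-- Commuting members of a generating class with commute-or-order-`p` products, `p ≥ 5`, have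
product in the 2-core. -/
theorem mul_mem_pCore : ∀ (G : Type u) [Group G] [Finite G] (D : Set G), PClass D p →
    ∀ d ∈ D, ∀ e ∈ D, Commute d e → d * e ∈ Cfsg.pCore 2 G := by
  intro G _ _
  induction hn : Nat.card G using Nat.strong_induction_on generalizing G with
  | _ n IHn =>
  subst hn
  intro D h d hd e he hde
  have := Fact.mk Nat.prime_two
  have IH : ∀ (H : Type u) [Group H] [Finite H] (E : Set H), Nat.card H < Nat.card G → PClass E p →
      ∀ d ∈ E, ∀ e ∈ E, Commute d e → d * e ∈ Cfsg.pCore 2 H :=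
    fun H _ _ E hlt => IHn _ hlt H rfl E
  by_cases hO : Cfsg.pCore 2 G = ⊥
  swap
  · rcases eq_or_ne (Cfsg.pCore 2 G) ⊤ with htop | htop
    · rw [htop]; exact mem_top _
    have h1 := IH _ _ (Core.card_quotient_lt hO) (h.quotient htop) _ ⟨d, hd, rfl⟩ _ ⟨e, he, rfl⟩
      (hde.map _)
    rw [Core.pCore_quotient_eq_bot, mem_bot, ← map_mul] at h1
    exact (QuotientGroup.eq_one_iff _).1 h1
  by_cases hZ : Subgroup.center G = ⊥
  swap
  · set Z := Subgroup.center G with hZdef
    rcases eq_or_ne Z ⊤ with htop | htop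
    · obtain ⟨g, rfl⟩ := h.exists_conj hd he
      have hc : g * d = d * g := (mem_center_iff.1 (show d ∈ Z by rw [htop]; exact mem_top d) g)
      rw [hc, mul_inv_cancel_right, Invol.mul_self_eq_one (h.inv d hd)]
      exact one_mem _
    have h1 := IH _ _ (Core.card_quotient_lt hZ) (h.quotient htop) _ ⟨d, hd, rfl⟩ _ ⟨e, he, rfl⟩
      (hde.map _)
    rw [← map_mul] at h1
    set f := QuotientGroup.mk' Z
    set M := (Cfsg.pCore 2 (G ⧸ Z)).comap f with hM
    have hMn : M.Normal := (inferInstance : (Cfsg.pCore 2 (G ⧸ Z)).Normal).comap f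
    have heven : d * e = 1 ∨ orderOf (d * e) = 2 := by
      rcases eq_or_ne d e with rfl | hne
      · exact Or.inl (Invol.mul_self_eq_one (h.inv d hd))
      · exact Or.inr (orderOf_mul_eq_two (h.inv d hd) (h.inv e he) hde hne)
    rcases heven with h2 | h2
    · rw [h2]; exact one_mem _
    obtain ⟨P, hP⟩ := (IsPGroup.of_card (n := 1) (G := zpowers (⟨d * e, h1⟩ : M))
      (by rw [Nat.card_zpowers, ← orderOf_submonoid, pow_one]; exact h2)).exists_le_sylow (p := 2)
    have hPM : ∀ m : M, ∀ q ∈ (P : Subgroup M), m * q * m⁻¹ ∈ (P : Subgroup M) := by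
      have hnil : Group.IsNilpotent M := by
        let φ : M →* Cfsg.pCore 2 (G ⧸ Z) := f.subgroupComap _
        have := (Core.pCore_isPGroup (p := 2) (G := G ⧸ Z)).isNilpotent
        refine Subgroup.isNilpotent_of_ker_le_center φ (fun a ha => mem_center_iff.2 fun b => ?_)
        have h3 : (a : G) ∈ Z := (QuotientGroup.eq_one_iff _).1 (congrArg Subtype.val ha)
        exact Subtype.ext (mem_center_iff.1 h3 b)
      have htfae := (Group.isNilpotent_of_finite_tfae (G := M)).out 0 3 rfl rfl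
      have hnorm : (P : Subgroup M).Normal := htfae.1 hnil 2 inferInstance P
      exact fun m q hq => hnorm.conj_mem q hq m
    have hsubs : (P : Subgroup M).map M.subtype ≤ Cfsg.pCore 2 G := by
      have hn : ((P : Subgroup M).map M.subtype).Normal := by
        have hch := P.characteristic_of_normal ⟨fun q hq m => hPM m q hq⟩
        infer_instance
      exact Core.le_pCore (P.2.map _)
    exact hsubs ⟨_, hP (mem_zpowers _), rfl⟩
  rcases eq_or_ne d e with rfl | hne
  · rw [Invol.mul_self_eq_one (h.inv d hd)]; exact one_mem _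
  exact (PCrit.absurd_pair ⟨d, hd, e, he, hde, hne⟩
    { toPClass := h, twoCore := hO, trivCenter := hZ,
      jtype := fun x hx y hy z hz h1 h2 h3 h4 => h.jtype_of_ih IH hx hy hz h1 h2 h3 h4 }).elim

end Cfsg.Agent.RankThreeInvol
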