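import Cfsg.Agent.RankThreeInvol.Basic

/-!
# Commute-or-order-`p` classes: commuting members have the same neighbours
-/

set_option autoImplicit false

namespace Cfsg.Agent.RankThreeInvol

open Subgroup

variable {G : Type*} [Group G]

/-- A generating class of involutions whose members commute or have product of order `p`. -/
structure PClass (D : Set G) (p : ℕ) : Prop where
  prime : p.Prime
  five : 5 ≤ p
  inv : ∀ d ∈ D, orderOf d = 2
  cls : ∃ d ∈ D, D = conjugatesOf d
  gen : closure D = ⊤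
  dich : ∀ d ∈ D, ∀ e ∈ D, Commute d e ∨ orderOf (d * e) = p

/-- A minimal configuration for the commuting-products theorem. -/
structure PCrit (D : Set G) (p : ℕ) : Prop extends PClass D p where
  twoCore : Cfsg.pCore 2 G = ⊥
  trivCenter : Subgroup.center G = ⊥
  jtype : ∀ x ∈ D, ∀ y ∈ D, ∀ z ∈ D, Commute x y → ¬ Commute x z → ¬ Commute y z →
    closure ({x, y, z} : Set G) ≠ ⊤ → Commute (x * y * z * (x * y)⁻¹) z

/-- The members of `D` commuting with `d`. -/
def blk (D : Set G) (d : G) : Set G := {e ∈ D | Commute d e}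

namespace PClass

variable {D : Set G} {p : ℕ}

theorem conj_mem (h : PClass D p) {d : G} (hd : d ∈ D) (g : G) : g * d * g⁻¹ ∈ D := by
  obtain ⟨d₀, -, hD⟩ := h.cls
  rw [hD] at hd ⊢
  exact IsConj.trans hd (isConj_iff.2 ⟨g, rfl⟩)

theorem exists_conj (h : PClass D p) {d e : G} (hd : d ∈ D) (he : e ∈ D) :
    ∃ g : G, g * d * g⁻¹ = e := by
  obtain ⟨d₀, -, hD⟩ := h.cls
  rw [hD] at hd he
  exact isConj_iff.1 ((IsConj.symm hd).trans he)

theorem cl (h : PClass D p) : ∀ a ∈ D, ∀ b ∈ D, a * b * a ∈ D := fun a ha b hb => by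
  rw [← conj_eq (h.inv a ha)]
  exact h.conj_mem hb a

theorem two_lt (h : PClass D p) : 2 < p := lt_of_lt_of_le (by norm_num) h.five

theorem odd (h : PClass D p) : Odd p := h.prime.odd_of_ne_two h.two_lt.ne'

theorem order_of_not (h : PClass D p) {d e : G} (hd : d ∈ D) (he : e ∈ D) (hn : ¬ Commute d e) :
    orderOf (d * e) = p := (h.dich d hd e he).resolve_left hn

theorem odd_of_not (h : PClass D p) {d e : G} (hd : d ∈ D) (he : e ∈ D) (hn : ¬ Commute d e) :
    Odd (orderOf (d * e)) := h.order_of_not hd he hn ▸ h.odd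

theorem not_commute_of_order (h : PClass D p) {d e : G} (hd : d ∈ D) (he : e ∈ D)
    (ho : orderOf (d * e) = p) : ¬ Commute d e := fun hc => by
  rcases eq_or_ne d e with rfl | hne
  · rw [Invol.mul_self_eq_one (h.inv d hd), orderOf_one] at ho
    exact h.prime.ne_one ho.symm
  · rw [orderOf_mul_eq_two (h.inv d hd) (h.inv e he) hc hne] at ho
    exact h.two_lt.ne ho

/-- If `v` does not commute with `w`, then it does not commute with its conjugate by `w`. -/
theorem not_commute_conj (h : PClass D p) {v w : G} (hv : v ∈ D) (hw : w ∈ D)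
    (hn : ¬ Commute v w) : ¬ Commute v (w * v * w⁻¹) := by
  refine h.not_commute_of_order hv (h.conj_mem hv w) ?_
  rw [conj_eq (h.inv w hw), orderOf_mul_conj, Nat.Coprime.orderOf_pow, h.order_of_not hv hw hn]
  rw [h.order_of_not hv hw hn]
  exact h.odd.coprime_two_right

/-- An element of `D` commuting with a product of two commuting members commutes with both. -/
theorem commute_factors (h : PClass D p) {x y z : G} (hx : x ∈ D) (hy : y ∈ D) (hz : z ∈ D)
    (hxy : Commute x y) (hne : x ≠ y) (hc : Commute z (x * y)) :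
    Commute z x ∧ Commute z y := by
  have key : Commute z x → Commute z y := fun hzx => by
    have := hzx.mul_right hc
    rwa [Invol.mul_mul_cancel_self (h.inv x hx)] at this
  by_cases hzx : Commute z x
  · exact ⟨hzx, key hzx⟩
  exfalso
  have hzy : ¬ Commute z y := fun hzy => hzx (by
    have := hc.mul_right hzy
    rwa [mul_assoc, Invol.mul_self_eq_one (h.inv y hy), mul_one] at this)
  have he : x * y * (x * z) = y * z := by
    rw [hxy.eq, mul_assoc y, Invol.mul_mul_cancel_self (h.inv x hx)]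
  have hct : Commute (x * y) (x * z) :=
    (((Commute.refl x).mul_left hxy.symm).mul_right hc.symm)
  have hxz : orderOf (x * z) = p := h.order_of_not hx hz fun c => hzx c.symm
  have h2 : orderOf (x * y) = 2 := orderOf_mul_eq_two (h.inv x hx) (h.inv y hy) hxy hne
  have := hct.orderOf_mul_eq_mul_orderOf_of_coprime (by
    rw [h2, hxz]; exact h.odd.coprime_two_left)
  rw [he, h.order_of_not hy hz fun c => hzy c.symm, h2, hxz] at this
  have := h.prime.pos
  omega

theorem blk_conj (h : PClass D p) (g : G) (d : G) :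
    blk D (g * d * g⁻¹) = (fun e => g * e * g⁻¹) '' blk D d := by
  ext e
  constructor
  · rintro ⟨he, hc⟩
    refine ⟨g⁻¹ * e * g, ⟨by simpa using h.conj_mem he g⁻¹, ?_⟩, by group⟩
    have := (Commute.conj_iff g⁻¹).2 hc
    simpa [mul_assoc] using this
  · rintro ⟨a, ⟨ha, hc⟩, rfl⟩
    exact ⟨h.conj_mem ha g, (Commute.conj_iff g).2 hc⟩

theorem ncard_blk (h : PClass D p) {d e : G} (hd : d ∈ D) (he : e ∈ D) :
    (blk D d).ncard = (blk D e).ncard := by
  obtain ⟨g, rfl⟩ := h.exists_conj hd he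
  rw [h.blk_conj g d]
  exact (Set.ncard_image_of_injective _ (MulAut.conj g).injective).symm

variable [Finite G]

/-- If a product of two commuting members is a member, all three have the same neighbours. -/
theorem blk_eq_of_mul_mem (h : PClass D p) {x y : G} (hx : x ∈ D) (hy : y ∈ D) (hxy : Commute x y)
    (hne : x ≠ y) (ht : x * y ∈ D) :
    blk D (x * y) = blk D x ∧ blk D (x * y) = blk D y := by
  have key : ∀ e ∈ blk D (x * y), e ∈ blk D x ∧ e ∈ blk D y := fun e he => by
    have := h.commute_factors hx hy he.1 hxy hne he.2.symm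
    exact ⟨⟨he.1, this.1.symm⟩, ⟨he.1, this.2.symm⟩⟩
  exact ⟨Set.eq_of_subset_of_ncard_le (fun e he => (key e he).1) (h.ncard_blk hx ht).le
      (Set.toFinite _),
    Set.eq_of_subset_of_ncard_le (fun e he => (key e he).2) (h.ncard_blk hy ht).le
      (Set.toFinite _)⟩

end PClass

namespace PCrit

variable [Finite G] {D : Set G} {p : ℕ}

omit [Finite G] in
theorem eq_one_of_central (h : PCrit D p) {x y z g : G} (hgen : closure ({x, y, z} : Set G) = ⊤)
    (hx : Commute g x) (hy : Commute g y) (hz : Commute g z) : g = 1 := by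
  have hle : closure ({x, y, z} : Set G) ≤ centralizer {g} := by
    refine (closure_le _).2 ?_
    rintro a (rfl | rfl | rfl) <;> exact mem_centralizer_singleton_iff.2 (Commute.eq (Commute.symm ‹_›))
  rw [hgen] at hle
  have hc : g ∈ Subgroup.center G :=
    Subgroup.mem_center_iff.2 fun a => mem_centralizer_singleton_iff.1 (hle (mem_top a))
  rwa [h.trivCenter, mem_bot] at hc

omit [Finite G] in
theorem gen_of_fType (h : PCrit D p) {x y z : G} (hx : x ∈ D) (hy : y ∈ D) (hz : z ∈ D)
    (hxy : Commute x y) (hxz : ¬ Commute x z) (hyz : ¬ Commute y z)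
    (hf : ¬ Commute (x * y * z * (x * y)⁻¹) z) : closure ({x, y, z} : Set G) = ⊤ := by
  by_contra hne
  exact hf (h.jtype x hx y hy z hz hxy hxz hyz hne)

/-- In the second type of triple the product of the commuting pair is a member. -/
theorem mul_mem_of_fType (h : PCrit D p) {x y z : G} (hx : x ∈ D) (hy : y ∈ D) (hz : z ∈ D)
    (hxy : Commute x y) (hne : x ≠ y) (hxz : ¬ Commute x z) (hyz : ¬ Commute y z)
    (hf : ¬ Commute (x * y * z * (x * y)⁻¹) z) : x * y ∈ D := by
  set t := x * y with ht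
  have ht2 : orderOf t = 2 := orderOf_mul_eq_two (h.inv x hx) (h.inv y hy) hxy hne
  set z' := t * z * t⁻¹ with hz'
  have hz'D : z' ∈ D := h.conj_mem hz t
  have hodd := h.odd_of_not hz hz'D fun c => hf c.symm
  set w := mid z z' with hw
  have hwD : w ∈ D := mid_mem h.inv h.cl hz hz'D
  have hback : t * z' * t⁻¹ = z := by
    rw [hz', Invol.inv_eq_self ht2]
    simp only [← mul_assoc, Invol.mul_self_eq_one ht2, one_mul]
    rw [mul_assoc, Invol.mul_self_eq_one ht2, mul_one]
  have hct : Commute t w := commute_mid_of_swap (h.inv z hz) (h.inv z' hz'D) hodd rfl hback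
  obtain ⟨hwx, hwy⟩ := h.commute_factors hx hy hwD hxy hne hct.symm
  have hwz' : w * z' * w = z := by
    have h1 : w * z * w = z' := mid_conj (h.inv z hz) (h.inv z' hz'D) hodd
    rw [← h1, ← mul_assoc w, ← mul_assoc w, Invol.mul_self_eq_one (h.inv w hwD), one_mul,
      mul_assoc, Invol.mul_self_eq_one (h.inv w hwD), mul_one]
  have hu : Commute (w * t) z := by
    refine mul_inv_eq_iff_eq_mul.1 ?_
    rw [mul_inv_rev, Invol.inv_eq_self (h.inv w hwD)]
    calc w * t * z * (t⁻¹ * w) = w * z' * w := by rw [hz']; simp only [mul_assoc]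
      _ = z := hwz'
  have htx : Commute t x := (Commute.refl x).mul_left hxy.symm
  have hty : Commute t y := hxy.mul_left (Commute.refl y)
  have h1 := h.eq_one_of_central (h.gen_of_fType hx hy hz hxy hxz hyz hf)
    (hwx.mul_left htx) (hwy.mul_left hty) hu
  rw [← eq_of_mul_eq_one ht2 h1]
  exact hwD

theorem four_blk (h : PCrit D p) {x y x₁ v : G} (hx : x ∈ D) (hy : y ∈ D) (hx₁ : x₁ ∈ D)
    (hy₁ : x * y * x₁ ∈ D) (hxy : Commute x y) (hxx₁ : Commute x x₁) (hyx₁ : Commute y x₁)
    (hne₁ : x₁ ≠ x) (hne₂ : x₁ ≠ y) (hv : v ∈ D) (hvx : Commute x v) :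
    Commute y v := by
  by_contra hvy
  set y₁ := x * y * x₁ with hy₁'
  have hyy₁ : Commute y y₁ := (hxy.symm.mul_right (Commute.refl y)).mul_right hyx₁
  have hyne : y ≠ y₁ := fun he => hne₁ (eq_of_mul_eq_one (h.inv x hx) (by
    have h1 : x * y * x₁ = y := he.symm
    rw [hxy.eq, mul_assoc] at h1
    rw [← hxx₁.eq]
    exact mul_eq_left.1 h1))
  by_cases hvx₁ : Commute x₁ v
  · have he : y * y₁ = x * x₁ := by
      rw [hy₁', hxy.eq, ← mul_assoc, Invol.mul_mul_cancel_self (h.inv y hy)]
    exact hvy (h.commute_factors hy hy₁ hv hyy₁ hyne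
      (he ▸ (hvx.symm.mul_right hvx₁.symm))).1.symm
  have het : y * x₁ = x * y₁ := by
    rw [hy₁', mul_assoc x, Invol.mul_mul_cancel_self (h.inv x hx)]
  have hxy₁ : Commute x y₁ := ((Commute.refl x).mul_right hxy).mul_right hxx₁
  by_cases hf : Commute (y * x₁ * v * (y * x₁)⁻¹) v
  · rw [het, hxy₁.eq] at hf
    have hcv : y₁ * x * v * (y₁ * x)⁻¹ = y₁ * v * y₁⁻¹ := by
      rw [mul_assoc y₁ x v, hvx.eq]; group
    rw [hcv] at hf
    have hvy₁ : Commute y₁ v := by
      by_contra hn
      exact h.not_commute_conj hv hy₁ (fun c => hn c.symm) hf.symm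
    exact hvy (h.commute_factors hy hx₁ hv hyx₁ hne₂.symm
      (het ▸ (hvx.symm.mul_right hvy₁.symm))).1.symm
  · have htD : y * x₁ ∈ D := h.mul_mem_of_fType hy hx₁ hv hyx₁ hne₂.symm hvy hvx₁ hf
    have h1 := (h.blk_eq_of_mul_mem hy hx₁ hyx₁ hne₂.symm htD).1
    have hne' : x ≠ y₁ := fun he => by
      apply hne₂
      have h1 : x * y * x₁ = x := he.symm
      rw [mul_assoc] at h1
      exact (eq_of_mul_eq_one (h.inv x₁ hx₁) (mul_eq_left.1 h1)).symm
    have h2 := (h.blk_eq_of_mul_mem hx hy₁ hxy₁ hne' (het ▸ htD)).1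
    rw [← het, h1] at h2
    exact hvy (h2 ▸ (⟨hv, hvx⟩ : v ∈ blk D x) : v ∈ blk D y).2

theorem blk_eq_of_third (h : PCrit D p) {x y z : G} (hx : x ∈ D) (hy : y ∈ D) (hz : z ∈ D)
    (hxy : Commute x y) (hne : x ≠ y) (hxz : ¬ Commute x z) (hyz : ¬ Commute y z) :
    blk D x = blk D y := by
  set t := x * y with ht
  have ht2 : orderOf t = 2 := orderOf_mul_eq_two (h.inv x hx) (h.inv y hy) hxy hne
  have htx : Commute t x := (Commute.refl x).mul_left hxy.symm
  have hty : Commute t y := hxy.mul_left (Commute.refl y)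
  by_cases hf : Commute (t * z * t⁻¹) z
  swap
  · obtain ⟨h1, h2⟩ := h.blk_eq_of_mul_mem hx hy hxy hne (h.mul_mem_of_fType hx hy hz hxy hne hxz hyz hf)
    exact h1.symm.trans h2
  set z' := t * z * t⁻¹ with hz'
  have hz'D : z' ∈ D := h.conj_mem hz t
  have hback : t * z' * t⁻¹ = z := by
    rw [hz', Invol.inv_eq_self ht2]
    simp only [← mul_assoc, Invol.mul_self_eq_one ht2, one_mul]
    rw [mul_assoc, Invol.mul_self_eq_one ht2, mul_one]
  have hzne : z ≠ z' := fun he => by
    have hcz : Commute t z := mul_inv_eq_iff_eq_mul.1 he.symm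
    exact hxz (h.commute_factors hx hy hz hxy hne hcz.symm).1.symm
  set s := z * z' with hs
  have hs2 : orderOf s = 2 := orderOf_mul_eq_two (h.inv z hz) (h.inv z' hz'D) hf.symm hzne
  have hst : Commute t s := by
    refine mul_inv_eq_iff_eq_mul.1 ?_
    rw [hs, ← conj_mul, ← hz', hback]
    exact hf.eq
  set x₁ := s * x * s⁻¹ with hx₁
  have hx₁D : x₁ ∈ D := h.conj_mem hx s
  have hne₁ : x₁ ≠ x := fun he => hxz
    (h.commute_factors hz hz'D hx hf.symm hzne (mul_inv_eq_iff_eq_mul.1 he).symm).1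
  have htx₁ : Commute t x₁ := (hst.mul_right htx).mul_right hst.inv_right
  have hsx₁ : s * x₁ * s⁻¹ = x := by
    rw [hx₁, Invol.inv_eq_self hs2]
    simp only [← mul_assoc, Invol.mul_self_eq_one hs2, one_mul]
    rw [mul_assoc, Invol.mul_self_eq_one hs2, mul_one]
  have hxx₁ : Commute x x₁ := by
    by_contra hn
    have hodd := h.odd_of_not hx hx₁D hn
    set w := mid x x₁ with hw
    have hwD : w ∈ D := mid_mem h.inv h.cl hx hx₁D
    have htw : Commute t w := commute_mid htx htx₁
    have hwx := (h.commute_factors hx hy hwD hxy hne htw.symm).1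
    have h1 := mid_conj (h.inv x hx) (h.inv x₁ hx₁D) hodd
    rw [← hw, hwx.eq, mul_assoc, Invol.mul_self_eq_one (h.inv w hwD), mul_one] at h1
    exact hne₁ h1.symm
  have hyx₁ : Commute y x₁ := by
    have := hxx₁.mul_left htx₁
    rwa [ht, Invol.mul_mul_cancel_self (h.inv x hx)] at this
  have hne₂ : x₁ ≠ y := by
    intro he
    have hzs : z * s * z⁻¹ = s := by
      rw [hs, Invol.inv_eq_self (h.inv z hz), Invol.mul_mul_cancel_self (h.inv z hz), ← hf.eq]
    have hzt : z * t * z⁻¹ = s * t := by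
      rw [hs, hz', Invol.inv_eq_self (h.inv z hz), Invol.inv_eq_self ht2]
      simp only [mul_assoc, Invol.mul_self_eq_one ht2, mul_one]
    have hxs : x * s * x⁻¹ = t * s := by
      have h1 : s * x = y * s := mul_inv_eq_iff_eq_mul.1 he
      rw [mul_assoc, Invol.inv_eq_self (h.inv x hx), h1, ← mul_assoc, ← ht]
    have hxt : x * t * x⁻¹ = t := by rw [← htx.eq, mul_inv_cancel_right]
    set a := x * z with ha
    have hat : a * t * a⁻¹ = s := by
      have e1 : a * t * a⁻¹ = x * (z * t * z⁻¹) * x⁻¹ := by rw [ha]; group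
      rw [e1, hzt, ← conj_mul, hxs, hxt, hst.eq, mul_assoc, Invol.mul_self_eq_one ht2, mul_one]
    have has : a * s * a⁻¹ = t * s := by
      have e1 : a * s * a⁻¹ = x * (z * s * z⁻¹) * x⁻¹ := by rw [ha]; group
      rw [e1, hzs, hxs]
    let f : G → G := fun b => a * b * a⁻¹
    have h3 : f^[3] t = t := by
      show f (f (f t)) = t
      have e2 : f (t * s) = f t * f s := conj_mul.symm
      rw [show f t = s from hat, show f s = t * s from has, e2, show f t = s from hat,
        show f s = t * s from has, hst.eq, ← mul_assoc, Invol.mul_self_eq_one hs2, one_mul]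
    have hp : f^[p] t = t := by
      rw [conj_iterate, ← h.order_of_not hx hz hxz, ha, pow_orderOf_eq_one, one_mul, inv_one,
        mul_one]
    have h1 : f^[1] t = t := by
      have hg : Function.IsPeriodicPt f (Nat.gcd 3 p) t := Function.IsPeriodicPt.gcd h3 hp
      have hcop : Nat.Coprime 3 p :=
        (Nat.coprime_primes Nat.prime_three h.prime).2 (by have := h.five; omega)
      rwa [hcop.gcd_eq_one] at hg
    have hts : s = t := by rw [← hat]; exact h1
    have hcz : Commute t z := by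
      rw [hts] at hzs
      exact (mul_inv_eq_iff_eq_mul.1 hzs).symm
    exact hxz (h.commute_factors hx hy hz hxy hne hcz.symm).1.symm
  have hy₁D : x * y * x₁ ∈ D := by
    have h1 : t * x₁ = s * y * s⁻¹ := by
      have h2 : s * t * s⁻¹ = t := by rw [← hst.eq, mul_inv_cancel_right]
      calc t * x₁ = x₁ * t := htx₁.eq
        _ = s * x * s⁻¹ * (s * t * s⁻¹) := by rw [h2, hx₁]
        _ = s * (x * t) * s⁻¹ := conj_mul
        _ = s * y * s⁻¹ := by rw [ht, Invol.mul_mul_cancel_self (h.inv x hx)]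
    exact h1 ▸ h.conj_mem hy s
  ext v
  refine ⟨fun hv => ⟨hv.1, h.four_blk hx hy hx₁D hy₁D hxy hxx₁ hyx₁ hne₁ hne₂ hv.1 hv.2⟩,
    fun hv => ⟨hv.1, ?_⟩⟩
  have he' : y * x * (x * y * x₁) = x₁ := by
    rw [mul_assoc x y, ← mul_assoc (y * x), mul_assoc y x x, Invol.mul_self_eq_one (h.inv x hx),
      mul_one, Invol.mul_mul_cancel_self (h.inv y hy)]
  refine h.four_blk hy hx hy₁D (by rw [he']; exact hx₁D) hxy.symm
    ((hxy.symm.mul_right (Commute.refl y)).mul_right hyx₁)
    (((Commute.refl x).mul_right hxy).mul_right hxx₁) (fun he => ?_) (fun he => ?_)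
    hv.1 hv.2
  · rw [hxy.eq, mul_assoc] at he
    exact hne₁ (eq_of_mul_eq_one (h.inv x hx) (hxx₁.eq ▸ mul_eq_left.1 he))
  · rw [mul_assoc] at he
    exact hne₂ (eq_of_mul_eq_one (h.inv x₁ hx₁D) (mul_eq_left.1 he)).symm

/-- Commuting members have the same neighbours. -/
theorem blk_eq_of_commute (h : PCrit D p) {x y : G} (hx : x ∈ D) (hy : y ∈ D)
    (hxy : Commute x y) : blk D x = blk D y := by
  by_contra hne
  let X : Set G := {d ∈ D | Commute d y ∧ blk D d ≠ blk D y}
  have hstep : ∀ d ∈ X, ∀ e ∈ D, ¬ Commute d e → e ∈ X := by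
    rintro d ⟨hd, hdy, hdne⟩ e he hde
    have hdy' : d ≠ y := fun h1 => hdne (h1 ▸ rfl)
    have hey : Commute e y := by
      by_contra hn
      exact hdne (h.blk_eq_of_third hd hy he hdy hdy' hde fun c => hn c.symm)
    refine ⟨he, hey, fun h1 => hde ?_⟩
    have h2 : d ∈ blk D e := h1 ▸ ⟨hd, hdy.symm⟩
    exact h2.2.symm
  have hclX : ∀ s ∈ D, ∀ d ∈ X, s * d * s⁻¹ ∈ X := fun s hs d hd => by
    by_cases hc : Commute s d
    · rwa [hc.eq, mul_inv_cancel_right]
    · refine hstep s (hstep d hd s hs fun c => hc c.symm) _ (h.conj_mem hd.1 s) fun c => hc ?_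
      have h1 := (Commute.conj_iff s⁻¹).2 c
      simpa [mul_assoc] using h1
  have hclX' : ∀ s ∈ D, ∀ d ∈ X, s⁻¹ * d * s ∈ X := fun s hs d hd => by
    have := hclX s hs d hd
    rwa [Invol.inv_eq_self (h.inv s hs)] at this ⊢
  obtain ⟨g, hg⟩ := h.exists_conj hx hy
  have hyX : y ∈ X := by
    rw [← hg]
    exact conj_mem_of_closure hclX hclX' (h.gen ▸ mem_top g) ⟨hx, hxy, hne⟩
  exact hyX.2.2 rfl

end PCrit

end Cfsg.Agent.RankThreeInvol
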